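import Cfsg.Agent.ReeSquare.Criterion
import Cfsg.Agent.Char.Linear

/-!
The part of the norm of a character carried by the conjugates of a set, and the multiplicities in
the restriction to an abelian subgroup.
-/

set_option autoImplicit false

namespace Cfsg.Agent.ReeSquare

open scoped ComplexConjugate
open Finset

universe u

variable {G : Type u} [Group G]

/-- The elements other than one of a subgroup. -/
noncomputable def sharp [Fintype G] (A : Subgroup G) : Finset G := by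
  classical exact univ.filter fun y => y ∈ A ∧ y ≠ 1

theorem mem_sharp [Fintype G] {A : Subgroup G} {y : G} : y ∈ sharp A ↔ y ∈ A ∧ y ≠ 1 := by
  simp [sharp]

theorem sum_sharp [Fintype G] {M : Type*} [AddCommGroup M] (A : Subgroup G) [Fintype A]
    (f : G → M) : ∑ y ∈ sharp A, f y = ∑ y : A, f y - f 1 := by
  classical
  rw [eq_sub_iff_add_eq, sharp]
  rw [show (univ.filter fun y : G => y ∈ A ∧ y ≠ 1) = (univ.filter fun y : G => y ∈ A).erase 1 by
    ext y; simp [and_comm]]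
  rw [Finset.sum_erase_add _ _ (by simp [one_mem])]
  exact Finset.sum_subtype _ (fun y => by simp) f

theorem card_sharp [Fintype G] (A : Subgroup G) : (sharp A).card + 1 = Nat.card A := by
  classical
  rw [sharp, show (univ.filter fun y : G => y ∈ A ∧ y ≠ 1) = (univ.filter fun y : G => y ∈ A).erase 1 by
    ext y; simp [and_comm], Finset.card_erase_add_one (by simp [one_mem]), ← Fintype.card_subtype,
    Nat.card_eq_fintype_card]

section Mass

variable [Fintype G]

/-- A union of classes carries at least the share of a set meeting each class in few elements. -/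
theorem mass_le (D : Finset G) (N : Subgroup G)
    (hti : ∀ g, ∀ d ∈ D, g * d * g⁻¹ ∈ D → g ∈ N) {F : G → ℝ} (hF0 : ∀ w, 0 ≤ F w)
    (hFc : ∀ g w, F (g * w * g⁻¹) = F w) (S : Finset G)
    (hS : ∀ d ∈ D, ∀ g, g * d * g⁻¹ ∈ S) :
    (Nat.card G : ℝ) * ∑ d ∈ D, F d ≤ (Nat.card N : ℝ) * ∑ w ∈ S, F w := by
  classical
  have h1 : (Nat.card G : ℝ) * ∑ d ∈ D, F d =
      ∑ p ∈ (univ : Finset G) ×ˢ D, F (p.1 * p.2 * p.1⁻¹) := by
    rw [Finset.sum_product]
    simp only [hFc, Finset.sum_const, Finset.card_univ, nsmul_eq_mul, Nat.card_eq_fintype_card]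
  rw [h1, ← Finset.sum_fiberwise_of_maps_to (g := fun p : G × G => p.1 * p.2 * p.1⁻¹) (t := S)
    (fun p hp => hS _ (Finset.mem_product.1 hp).2 _), Finset.mul_sum]
  refine Finset.sum_le_sum fun w _ => ?_
  rw [Finset.sum_congr rfl (fun p hp => congrArg F (Finset.mem_filter.1 hp).2), Finset.sum_const,
    nsmul_eq_mul]
  refine mul_le_mul_of_nonneg_right (Nat.cast_le.2 ?_) (hF0 w)
  set T := ((univ : Finset G) ×ˢ D).filter fun p : G × G => p.1 * p.2 * p.1⁻¹ = w
  rcases T.eq_empty_or_nonempty with hT | ⟨p₀, hp₀⟩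
  · simp [hT]
  simp only [T, Finset.mem_filter, Finset.mem_product, Finset.mem_univ, true_and] at hp₀
  rw [Nat.card_eq_fintype_card, ← Fintype.card_coe]
  have hmem : ∀ p : T, p₀.1⁻¹ * p.1.1 ∈ N := fun p => by
    have hp := p.2
    simp only [T, Finset.mem_filter, Finset.mem_product, Finset.mem_univ, true_and] at hp
    refine hti _ p.1.2 hp.1 ?_
    rw [show p₀.1⁻¹ * p.1.1 * p.1.2 * (p₀.1⁻¹ * p.1.1)⁻¹ =
      p₀.1⁻¹ * (p.1.1 * p.1.2 * p.1.1⁻¹) * p₀.1 by group, hp.2, ← hp₀.2,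
      show p₀.1⁻¹ * (p₀.1 * p₀.2 * p₀.1⁻¹) * p₀.1 = p₀.2 by group]
    exact hp₀.1
  refine Fintype.card_le_of_injective (fun p : T => (⟨_, hmem p⟩ : N)) fun p p' e => ?_
  have e1 : p.1.1 = p'.1.1 := mul_left_cancel (congrArg Subtype.val e)
  have hp := p.2
  have hp' := p'.2
  simp only [T, Finset.mem_filter, Finset.mem_product, Finset.mem_univ, true_and] at hp hp'
  have e2 := hp.2.trans hp'.2.symm
  rw [← e1] at e2
  exact Subtype.ext (Prod.ext e1 (mul_left_cancel (mul_right_cancel e2)))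

/-- Two such sets with no conjugate elements between them. -/
theorem mass_pair (D₁ D₂ : Finset G) (N₁ N₂ : Subgroup G)
    (h₁ : ∀ g, ∀ d ∈ D₁, g * d * g⁻¹ ∈ D₁ → g ∈ N₁)
    (h₂ : ∀ g, ∀ d ∈ D₂, g * d * g⁻¹ ∈ D₂ → g ∈ N₂)
    (hd : ∀ g, ∀ d ∈ D₁, g * d * g⁻¹ ∉ D₂) {F : G → ℝ} (hF0 : ∀ w, 0 ≤ F w)
    (hFc : ∀ g w, F (g * w * g⁻¹) = F w) :
    (Nat.card G : ℝ) * ((∑ d ∈ D₁, F d) * Nat.card N₂ + (∑ d ∈ D₂, F d) * Nat.card N₁) ≤
      (Nat.card N₁ : ℝ) * Nat.card N₂ * ∑ w, F w := by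
  classical
  set S := (univ : Finset G).filter fun w => ∃ g, ∃ d ∈ D₁, g * d * g⁻¹ = w with hS
  have e1 := mass_le D₁ N₁ h₁ hF0 hFc S fun d hd' g => by
    simp only [hS, mem_filter, mem_univ, true_and]
    exact ⟨g, d, hd', rfl⟩
  have e2 := mass_le D₂ N₂ h₂ hF0 hFc Sᶜ fun d hd' g => by
    simp only [hS, mem_compl, mem_filter, mem_univ, true_and, not_exists, not_and]
    intro a d₁ hd₁ e
    refine hd (g⁻¹ * a) d₁ hd₁ ?_
    rw [show g⁻¹ * a * d₁ * (g⁻¹ * a)⁻¹ = g⁻¹ * (a * d₁ * a⁻¹) * g by group, e,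
      show g⁻¹ * (g * d * g⁻¹) * g = d by group]
    exact hd'
  rw [← Finset.sum_add_sum_compl S F]
  nlinarith [mul_le_mul_of_nonneg_right e1 (Nat.cast_nonneg (α := ℝ) (Nat.card N₂)),
    mul_le_mul_of_nonneg_right e2 (Nat.cast_nonneg (α := ℝ) (Nat.card N₁))]

theorem sum_normSq_irr (χ : IrrCharacter G) :
    ∑ g, ‖(χ : G → ℂ) g‖ ^ 2 = (Nat.card G : ℝ) := by
  have h := Char.classInner_irr_self χ.2
  rw [Char.classInner_self_eq, Complex.ofReal_eq_one, inv_mul_eq_one₀
    (Nat.cast_ne_zero.2 Nat.card_pos.ne')] at h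
  simp only [Complex.sq_norm]
  exact h.symm

theorem norm_conj_eq (χ : IrrCharacter G) (g w : G) :
    ‖(χ : G → ℂ) (g * w * g⁻¹)‖ ^ 2 = ‖(χ : G → ℂ) w‖ ^ 2 := by
  rw [Char.isClassFunction_of_isIrr χ.2 w g]

theorem norm_one_eq (χ : IrrCharacter G) :
    ‖(χ : G → ℂ) 1‖ = (charDegree (χ : G → ℂ) : ℝ) := by
  rw [(CharArith.irr_degree_spec χ).1, Complex.norm_natCast]

end Mass

section Abelian

variable {H : Type*} [Group H] [Fintype H]

theorem irr_one_of_comm (hc : ∀ a b : H, a * b = b * a) (θ : IrrCharacter H) :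
    (θ : H → ℂ) 1 = 1 := Char.IsIrr.degree_one_of_comm θ.2 hc

theorem irr_mul_of_comm (hc : ∀ a b : H, a * b = b * a) (θ : IrrCharacter H) (a b : H) :
    (θ : H → ℂ) (a * b) = (θ : H → ℂ) a * (θ : H → ℂ) b :=
  CharArith.linear_mul (Char.IsIrr.isCharacter θ.2) (irr_one_of_comm hc θ) a b

theorem card_irr_of_comm (hc : ∀ a b : H, a * b = b * a) :
    Fintype.card (IrrCharacter H) = Nat.card H := by
  rw [← Nat.card_eq_fintype_card, Char.card_irrCharacter,
    Char.card_conjClasses_eq_card_iff.2 hc]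

theorem sum_irr_apply (hc : ∀ a b : H, a * b = b * a) {y : H} (hy : y ≠ 1) :
    ∑ θ : IrrCharacter H, (θ : H → ℂ) y = 0 := by
  classical
  have h := Char.regular_eq_sum y
  simpa [irr_one_of_comm hc, hy] using h

/-- The multiplicities of the linear characters in a character of an abelian group. -/
theorem exists_mult (hc : ∀ a b : H, a * b = b * a) {f : H → ℂ} (hf : IsCharacter H f) :
    ∃ n : IrrCharacter H → ℕ, (∀ θ : IrrCharacter H, classInner f (θ : H → ℂ) = n θ) ∧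
      (∀ y, f y = ∑ θ : IrrCharacter H, (n θ : ℂ) * (θ : H → ℂ) y) ∧
      f 1 = ((∑ θ, n θ : ℕ) : ℂ) ∧
      ∑ y, ‖f y‖ ^ 2 = (Nat.card H : ℝ) * ((∑ θ, n θ ^ 2 : ℕ) : ℝ) := by
  classical
  have hcl := Char.isClassFunction_of_isCharacter hf
  choose n hn using fun θ : IrrCharacter H =>
    Char.classInner_isCharacter_eq_natCast hf (Char.IsIrr.isCharacter θ.2)
  have hexp : ∀ y, f y = ∑ θ : IrrCharacter H, (n θ : ℂ) * (θ : H → ℂ) y := fun y => by
    have h := congrFun (Char.classFun_expansion hcl) y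
    simpa [hn] using h
  refine ⟨n, hn, hexp, ?_, ?_⟩
  · simp [hexp 1, irr_one_of_comm hc]
  · have h := Char.classInner_eq_sum (f' := f) hcl
    have h2 : ∀ θ : IrrCharacter H, classInner (θ : H → ℂ) f = (n θ : ℂ) := fun θ => by
      rw [← Char.classInner_conj_symm, hn, map_natCast]
    simp only [hn, h2] at h
    rw [Char.classInner_self_eq] at h
    have h' := congrArg Complex.re h
    simp only [Complex.ofReal_re, Complex.re_sum, Complex.mul_re, Complex.natCast_re,
      Complex.natCast_im, mul_zero, sub_zero] at h'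
    simp only [Complex.sq_norm]
    push_cast
    simp only [pow_two]
    rw [← h', mul_inv_cancel_left₀ (Nat.cast_ne_zero.2 Nat.card_pos.ne')]

/-- The least square sum of integers with a given sum. -/
theorem var_ge {ι : Type*} [Fintype ι] (n : ι → ℕ) :
    (((∑ i, n i) % Fintype.card ι * (Fintype.card ι - (∑ i, n i) % Fintype.card ι) : ℕ) : ℤ) ≤
      (Fintype.card ι : ℤ) * ∑ i, (n i : ℤ) ^ 2 - (∑ i, (n i : ℤ)) ^ 2 := by
  set C := Fintype.card ι with hC
  rcases Nat.eq_zero_or_pos C with h0 | hpos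
  · haveI : IsEmpty ι := Fintype.card_eq_zero_iff.1 h0
    simp
  set D := ∑ i, n i with hD
  set q := D / C
  set r := D % C
  have hr : r ≤ C := (Nat.mod_lt _ hpos).le
  have hDq : (D : ℤ) = C * q + r := by exact_mod_cast (Nat.div_add_mod D C).symm
  have hDs : ∑ i, (n i : ℤ) = D := by push_cast [hD]; rfl
  have hsum : ∑ i, ((n i : ℤ) - q) = r := by
    rw [Finset.sum_sub_distrib, hDs, Finset.sum_const, Finset.card_univ, nsmul_eq_mul, hDq]
    ring
  have hsq : (r : ℤ) ≤ ∑ i, ((n i : ℤ) - q) ^ 2 := by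
    rw [← hsum]
    exact Finset.sum_le_sum fun i _ => Int.le_self_sq _
  have hexp : ∑ i, ((n i : ℤ) - q) ^ 2 = ∑ i, (n i : ℤ) ^ 2 - 2 * q * D + C * q ^ 2 := by
    simp only [sub_sq]
    rw [Finset.sum_add_distrib, Finset.sum_sub_distrib, Finset.sum_const, Finset.card_univ,
      ← hDs, Finset.mul_sum, nsmul_eq_mul]
    congr 2
    exact Finset.sum_congr rfl fun i _ => by ring
  rw [hDs]
  push_cast [hr]
  nlinarith [mul_le_mul_of_nonneg_left hsq (Int.natCast_nonneg C)]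

/-- The norm away from one of a character of an abelian group. -/
theorem norm_away_ge (hc : ∀ a b : H, a * b = b * a) {f : H → ℂ} (hf : IsCharacter H f)
    {D : ℕ} (hD : f 1 = D) :
    ((D % Nat.card H * (Nat.card H - D % Nat.card H) : ℕ) : ℝ) ≤
      ∑ y, ‖f y‖ ^ 2 - (D : ℝ) ^ 2 := by
  obtain ⟨n, -, -, h1, h2⟩ := exists_mult hc hf
  have hDn : D = ∑ θ, n θ := Nat.cast_injective (hD.symm.trans h1)
  have h := var_ge n
  rw [card_irr_of_comm hc] at h
  subst hDn
  rw [h2]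
  generalize (∑ θ, n θ) % Nat.card H * (Nat.card H - (∑ θ, n θ) % Nat.card H) = R at h ⊢
  have h' := (Int.cast_le (R := ℝ)).2 h
  push_cast at h' ⊢
  exact h'

end Abelian

end Cfsg.Agent.ReeSquare
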