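import Cfsg.Agent.ReeSquare.Degree
import Cfsg.Agent.ReeSquare.Mult
import Cfsg.Agent.S0157

/-!
The central elements of the unipotent subgroup are covered by the torus of order `q + 1`.
-/

set_option autoImplicit false
set_option maxRecDepth 100000
set_option maxHeartbeats 1000000

namespace Cfsg.Agent.ReeSquare

open Cfsg.Lie Cfsg.Agent.Chev Cfsg.Agent.Chev.Ree
open scoped ComplexConjugate

universe u

variable {K : Type u} [Field K] [Fintype K] [CharP K 3] {m : ℕ}
  (hK : Fintype.card K = 3 ^ (2 * m + 1))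
include hK

theorem rr_neg_central (v : K) : (rr (0, 0, v) : G1 K m)⁻¹ = rr (0, 0, -v) :=
  inv_eq_of_mul_eq_one_right (by
    rw [← rr_plane hK (0, v) (0, -v)]
    simp [rr_zero])

/-- The permutation character on the points less one, an irreducible character. -/
theorem exists_steinberg :
    ∃ χ : IrrCharacter (G1 K m), ∀ g,
      (χ : G1 K m → ℂ) g =
        (Nat.card (MulAction.fixedBy (G1 K m ⧸ B1 K m) g) : ℂ) - 1 := by
  haveI : Finite (G1 K m ⧸ B1 K m) := inferInstance
  have h2 : MulAction.IsMultiplyPretransitive (G1 K m) (G1 K m ⧸ B1 K m) 2 := by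
    rw [MulAction.is_two_pretransitive_iff]
    intro a b c d hab hcd
    obtain ⟨g, hg1, hg2⟩ := exists_pair_to hK hab
    obtain ⟨h, hh1, hh2⟩ := exists_pair_to hK hcd
    refine ⟨h * g⁻¹, ?_, ?_⟩
    · rw [← hg1, smul_mk hK, inv_mul_cancel_right, hh1]
    · rw [← hg2, smul_mk hK, ← mul_assoc, inv_mul_cancel_right, hh2]
  have hX : 2 ≤ Nat.card (G1 K m ⧸ B1 K m) := by
    rw [← Nat.card_congr (Equiv.ofBijective _ (points_bij hK (m := m))), Finite.card_option]
    have := Nat.card_pos (α := K × K × K)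
    omega
  exact ⟨⟨_, (S0157.result (G1 K m ⧸ B1 K m) hX).2 h2⟩, fun g => rfl⟩

theorem card_points : Nat.card (G1 K m ⧸ B1 K m) = (3 ^ (2 * m + 1)) ^ 3 + 1 := by
  rw [← Nat.card_congr (Equiv.ofBijective _ (points_bij hK (m := m))), Finite.card_option,
    Nat.card_prod, Nat.card_prod, Nat.card_eq_fintype_card, hK]
  ring

theorem fixed_central {v : K} (hv : v ≠ 0) :
    Nat.card (MulAction.fixedBy (G1 K m ⧸ B1 K m) (rr (0, 0, v) : G1 K m)) = 1 := by
  have hne : (rr (0, 0, v) : G1 K m) ≠ 1 := fun e =>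
    hv (congrArg (fun z : K × K × K => z.2.2) (rr_eq_one e))
  have h3 : (rr (0, 0, v) : G1 K m) ^ 3 ^ 1 = 1 := by
    rw [pow_one]
    exact (rr_cube_eq_one hK).2 rfl
  have hone : (QuotientGroup.mk 1 : G1 K m ⧸ B1 K m) ∈
      MulAction.fixedBy (G1 K m ⧸ B1 K m) (rr (0, 0, v) : G1 K m) := by
    rw [MulAction.mem_fixedBy, smul_mk hK, mk_eq hK, mul_one, mul_one]
    exact inv_mem (rr_mem_B1 hK _)
  rw [Nat.card_eq_one_iff_unique]
  refine ⟨⟨fun x y => Subtype.ext ?_⟩, ⟨⟨_, hone⟩⟩⟩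
  have key : ∀ x : G1 K m ⧸ B1 K m,
      x ∈ MulAction.fixedBy (G1 K m ⧸ B1 K m) (rr (0, 0, v) : G1 K m) → x = QuotientGroup.mk 1 := by
    intro x hx
    induction x using QuotientGroup.induction_on with | _ g =>
    rw [MulAction.mem_fixedBy, smul_mk hK, mk_eq hK, mul_inv_rev] at hx
    have hx' := inv_mem hx
    have hb : g⁻¹ * rr (0, 0, v) * g ∈ B1 K m := by
      simpa [mul_assoc] using hx'
    have hu := mem_U1_of_pow hK hb (j := 1) (by
      have hc := conj_pow (i := 3 ^ 1) (a := g⁻¹) (b := (rr (0, 0, v) : G1 K m))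
      rw [inv_inv] at hc
      rw [hc, h3]
      group)
    rw [mk_eq hK, mul_one]
    exact inv_mem (mem_B1_of_conj hK (rr_mem_U1 hK _) hu hne)
  rw [key _ x.2, key _ y.2]

theorem fixed_torus {x : G1 K m} {r : ℕ} (hr : r.Prime) (hb : r ∣ (3 ^ (2 * m + 1) + 1) / 4)
    (hx : r ∣ orderOf x) :
    Nat.card (MulAction.fixedBy (G1 K m ⧸ B1 K m) x) = 0 := by
  have h8 := pow_odd_mod m
  have h4 : 3 ^ (2 * m + 1) + 1 = 4 * ((3 ^ (2 * m + 1) + 1) / 4) := by omega
  rw [Nat.card_eq_zero]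
  refine Or.inl ⟨fun ⟨p, hp⟩ => ?_⟩
  induction p using QuotientGroup.induction_on with | _ g =>
  rw [MulAction.mem_fixedBy, smul_mk hK, mk_eq hK, mul_inv_rev] at hp
  have hx' := inv_mem hp
  have hb' : g⁻¹ * x * g ∈ B1 K m := by simpa [mul_assoc] using hx'
  have hd := Subgroup.orderOf_dvd_natCard _ hb'
  rw [card_B1 hK, show orderOf (g⁻¹ * x * g) = orderOf x by
    conv_rhs => rw [← orderOf_conj_eq g⁻¹ x, inv_inv]] at hd
  have hrq : r ∣ 3 ^ (2 * m + 1) + 1 := h4 ▸ dvd_mul_of_dvd_right hb 4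
  have hpf := prime_facts (q := 3 ^ (2 * m + 1)) (by omega) hr
  rcases hr.dvd_mul.1 (hx.trans hd) with h | h
  · exact hpf.2.2.2.2.1 ⟨hr.dvd_of_dvd_pow h, hrq⟩
  · have h2 := hpf.1 h hrq
    subst h2
    omega

/-- A character without fixed vectors for the central subgroup has degree divisible by three. -/
theorem three_dvd_degree (χ : IrrCharacter (G1 K m))
    (h0 : ∑ v : K, (χ : G1 K m → ℂ) (rr (0, 0, v)) = 0) :
    3 ∣ charDegree (χ : G1 K m → ℂ) := by
  haveI : Fact (Nat.Prime 3) := ⟨Nat.prime_three⟩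
  obtain ⟨n, ρ, -, e⟩ := χ.2
  rw [← e] at h0 ⊢
  let FZ : Multiplicative K →* G1 K m :=
    { toFun := fun w => rr (0, 0, w.toAdd)
      map_one' := rr_zero
      map_mul' := fun a b => by
        show (rr (0, 0, a.toAdd + b.toAdd) : G1 K m) = _
        rw [← rr_plane hK (0, a.toAdd) (0, b.toAdd), add_zero] }
  let σ : Representation ℂ (Multiplicative K) (Fin n → ℂ) := ρ.comp FZ
  have hinv : σ.invariants = ⊥ := by
    refine Submodule.finrank_eq_zero.1 ?_
    have h := sum_char_eq σ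
    rw [show ∑ w, σ.character w = 0 from
      (Fintype.sum_equiv Multiplicative.ofAdd (fun v : K => ρ.character (rr (0, 0, v))) σ.character
        fun v => rfl).symm.trans h0] at h
    rcases mul_eq_zero.1 h.symm with e' | e'
    · exact absurd e' (Nat.cast_ne_zero.2 Nat.card_pos.ne')
    · exact_mod_cast e'
  have hop : ∑ v : K, ρ (rr (0, 0, v) : G1 K m) = 0 := by
    refine LinearMap.ext fun x => ?_
    have hx : (∑ v : K, ρ (rr (0, 0, v) : G1 K m)) x ∈ σ.invariants := by
      intro a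
      simp only [LinearMap.sum_apply, map_sum]
      refine Fintype.sum_equiv (Equiv.addLeft a.toAdd) _ _ fun v => ?_
      show ρ (rr (0, 0, a.toAdd) : G1 K m) (ρ (rr (0, 0, v)) x) = ρ (rr (0, 0, a.toAdd + v)) x
      rw [← Module.End.mul_apply, ← map_mul, ← rr_plane hK (0, a.toAdd) (0, v), add_zero]
    rw [hinv, Submodule.mem_bot] at hx
    simpa using hx
  have h1 : ρ.character (rr (0, 1, 0) : G1 K m) = 0 := by
    have hsum : ∑ v : K, ρ.character (rr (0, 1, 0) * rr (0, 0, v) : G1 K m) = 0 := by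
      simp only [fun v : K => show ρ.character (rr (0, 1, 0) * rr (0, 0, v) : G1 K m) =
        LinearMap.trace ℂ _ (ρ (rr (0, 1, 0)) * ρ (rr (0, 0, v))) by rw [← map_mul]; rfl,
        ← map_sum, ← Finset.mul_sum, hop, mul_zero, map_zero]
    have hval : ∀ v : K,
        ρ.character (rr (0, 1, 0) * rr (0, 0, v) : G1 K m) = ρ.character (rr (0, 1, 0)) := by
      intro v
      rw [← rr_plane hK (1, 0) (0, v), add_zero, zero_add,
        ← ρ.char_conj (rr (0, 1, 0) : G1 K m) (rr (v, 0, 0)), rr_plane_conj hK, mul_one, zero_add]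
    simp only [hval, Finset.sum_const, Finset.card_univ, nsmul_eq_mul] at hsum
    exact (mul_eq_zero.1 hsum).resolve_left (Nat.cast_ne_zero.2 Fintype.card_ne_zero)
  refine CharArith.dvd_degree_of_eq_zero 3 ⟨n, ρ, rfl⟩ (rr (0, 1, 0)) ⟨1, ?_⟩ h1
  rw [pow_one]
  exact orderOf_eq_prime ((rr_cube_eq_one hK).2 rfl) fun e' =>
    one_ne_zero (congrArg (fun z : K × K × K => z.2.1) (rr_eq_one e'))

/-- The torus of order `q + 1` covers the central unipotent elements. -/
theorem covers_central (hm : 1 ≤ m) {T : Subgroup (G1 K m)} {a : G1 K m}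
    (hT : IsQTorus (3 ^ (2 * m + 1)) T a) {x : G1 K m} (hxT : x ∈ T) (hx2 : x ^ 2 ≠ 1)
    (hreal : IsConj x x⁻¹) {v : K} (hv : v ≠ 0) : Covers x (rr (0, 0, v)) := by
  classical
  by_contra hno
  set q := 3 ^ (2 * m + 1) with hq
  have h27 : 27 ≤ q := le_pow_odd hm
  have hall : ∀ w : K, w ≠ 0 → ¬ Covers x (rr (0, 0, w)) := by
    intro w hw hcov
    refine hno (Covers.of_conj_right (tt hK (Units.mk0 (w / v) (div_ne_zero hw hv))) ?_)
    rw [tt_conj_rr hK, mul_zero, mul_zero, Units.val_mk0, div_mul_cancel₀ _ hv]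
    exact hcov
  have hx1 : x ≠ 1 := fun e => hx2 (by rw [e, one_pow])
  have hC : Nat.card (Subgroup.centralizer ({x} : Set (G1 K m))) = q + 1 := by
    rw [hT.torus.cent x hxT hx2, hT.card]
  have hreal' : ∀ χ : IrrCharacter (G1 K m), conj ((χ : G1 K m → ℂ) x) = (χ : G1 K m → ℂ) x :=
    fun χ => by
      rw [← Char.IsChar.inv_eq_conj (Char.IsIrr.isCharacter χ.2)]
      exact (Char.classFun_isConj (Char.isClassFunction_of_isIrr χ.2) hreal).symm
  have hsq : ∀ χ : IrrCharacter (G1 K m), (χ : G1 K m → ℂ) x * (χ : G1 K m → ℂ) x =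
      ((‖(χ : G1 K m → ℂ) x‖ ^ 2 : ℝ) : ℂ) := fun χ => by
    nth_rw 2 [← hreal' χ]
    rw [Complex.mul_conj, Complex.sq_norm]
  -- multiplicities of the trivial character of the centre
  have hk : ∀ χ : IrrCharacter (G1 K m), ∃ k : ℕ,
      ∑ w : K, (χ : G1 K m → ℂ) (rr (0, 0, w)) = (q : ℂ) * k := by
    intro χ
    let FZ : Multiplicative K →* G1 K m :=
      { toFun := fun w => rr (0, 0, w.toAdd)
        map_one' := rr_zero
        map_mul' := fun a b => by
          show (rr (0, 0, a.toAdd + b.toAdd) : G1 K m) = _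
          rw [← rr_plane hK (0, a.toAdd) (0, b.toAdd), add_zero] }
    obtain ⟨n, ρ, -, e⟩ := χ.2
    let σ : Representation ℂ (Multiplicative K) (Fin n → ℂ) := ρ.comp FZ
    refine ⟨Module.finrank ℂ σ.invariants, ?_⟩
    have h := sum_char_eq σ
    rw [Nat.card_eq_fintype_card, Fintype.card_multiplicative, hK] at h
    rw [← e, hq, ← h]
    exact Fintype.sum_equiv Multiplicative.ofAdd _ _ fun w => rfl
  choose k hk using hk
  have hz : ∀ w : K, w ≠ 0 → ∑ χ : IrrCharacter (G1 K m), (χ : G1 K m → ℂ) x * (χ : G1 K m → ℂ) x *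
      (χ : G1 K m → ℂ) (rr (0, 0, w)) / (χ : G1 K m → ℂ) 1 = 0 := by
    intro w hw
    refine CharArith.sum_triple_eq_zero x x _ fun a b e => hall (-w) (neg_ne_zero.2 hw) ⟨a, b, ?_⟩
    rw [← rr_neg_central hK]
    rw [← mul_assoc] at e
    exact (eq_inv_of_mul_eq_one_left e).symm
  have hmain : ∑ χ : IrrCharacter (G1 K m),
      ‖(χ : G1 K m → ℂ) x‖ ^ 2 * ((q : ℝ) * k χ) / (charDegree (χ : G1 K m → ℂ) : ℝ) = (q : ℝ) + 1 := by
    apply Complex.ofReal_injective
    push_cast
    calc ∑ χ : IrrCharacter (G1 K m),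
          ((‖(χ : G1 K m → ℂ) x‖ : ℂ) ^ 2 * ((q : ℂ) * (k χ : ℂ)) / (charDegree (χ : G1 K m → ℂ) : ℂ))
        = ∑ w : K, ∑ χ : IrrCharacter (G1 K m), (χ : G1 K m → ℂ) x * (χ : G1 K m → ℂ) x *
            (χ : G1 K m → ℂ) (rr (0, 0, w)) / (χ : G1 K m → ℂ) 1 := by
          rw [Finset.sum_comm]
          refine Finset.sum_congr rfl fun χ _ => ?_
          rw [← Finset.sum_div, ← Finset.mul_sum, hk, hsq, (CharArith.irr_degree_spec χ).1]
          push_cast
          rfl
      _ = _ := by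
          rw [Finset.sum_eq_single (0 : K) (fun w _ hw => hz w hw)
            (fun h => absurd (Finset.mem_univ _) h), rr_zero]
          have h := sum_norm_sq x
          rw [hC] at h
          have h' : ((∑ χ : IrrCharacter (G1 K m), ‖(χ : G1 K m → ℂ) x‖ ^ 2 : ℝ) : ℂ) = (q : ℂ) + 1 := by
            rw [h]; push_cast; rfl
          rw [← h', Complex.ofReal_sum]
          refine Finset.sum_congr rfl fun χ _ => ?_
          rw [hsq, mul_div_cancel_right₀ _ (Char.IsIrr.one_ne_zero χ.2)]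
  -- the Steinberg character
  obtain ⟨St, hSt⟩ := exists_steinberg hK (m := m)
  obtain ⟨r, hr, hrd⟩ := Nat.exists_prime_and_dvd
    (show orderOf (x ^ 2) ≠ 1 from fun e => hx2 (orderOf_eq_one_iff.1 e))
  have hrb : r ∣ (q + 1) / 4 := by
    have := hrd.trans (Subgroup.orderOf_dvd_natCard _ (hT.sq x hxT))
    rwa [hT.card_zpowers] at this
  have hStx : (St : G1 K m → ℂ) x = -1 := by
    rw [hSt, fixed_torus hK hr hrb (hrd.trans (orderOf_pow_dvd 2))]
    norm_num
  have hSt1 : (St : G1 K m → ℂ) 1 = ((q ^ 3 : ℕ) : ℂ) := by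
    rw [hSt, MulAction.fixedBy_one_eq_univ, Nat.card_coe_set_eq, Set.ncard_univ, card_points hK, ← hq]
    push_cast
    ring
  have hStD : charDegree (St : G1 K m → ℂ) = q ^ 3 := by
    have := (CharArith.irr_degree_spec St).1
    rw [hSt1] at this
    exact_mod_cast this.symm
  have hStk : (q : ℂ) * k St = ((q ^ 3 : ℕ) : ℂ) := by
    rw [← hk, Finset.sum_eq_single (0 : K) (fun w _ hw => by rw [hSt, fixed_central hK hw]; norm_num)
      (fun h => absurd (Finset.mem_univ _) h), rr_zero, hSt1]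
  have hStne : St ≠ triv := fun e => by
    rw [e, triv_apply] at hStx
    norm_num at hStx
  have hk1 : k (triv : IrrCharacter (G1 K m)) = 1 := by
    have h := hk (triv : IrrCharacter (G1 K m))
    simp only [triv_apply, Finset.sum_const, Finset.card_univ, nsmul_eq_mul, mul_one, hK, ← hq] at h
    have h' : q * k (triv : IrrCharacter (G1 K m)) = q * 1 := by rw [mul_one]; exact_mod_cast h.symm
    exact Nat.eq_of_mul_eq_mul_left (by omega) h'
  -- every other character vanishes at `x` or has degree divisible by three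
  have hrest : ∀ χ : IrrCharacter (G1 K m), χ ≠ triv → χ ≠ St →
      (χ : G1 K m → ℂ) x = 0 ∨ 3 ∣ charDegree (χ : G1 K m → ℂ) := by
    intro χ h1 h2
    set F : IrrCharacter (G1 K m) → ℝ := fun χ =>
      ‖(χ : G1 K m → ℂ) x‖ ^ 2 * ((q : ℝ) * k χ) / (charDegree (χ : G1 K m → ℂ) : ℝ) with hF
    have hF0 : ∀ χ, 0 ≤ F χ := fun χ => by positivity
    have hle : ∑ ψ ∈ ({triv, St, χ} : Finset (IrrCharacter (G1 K m))), F ψ ≤ (q : ℝ) + 1 := by
      rw [← hmain]
      exact Finset.sum_le_univ_sum_of_nonneg hF0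
    rw [Finset.sum_insert (by simp [hStne.symm, h1.symm]), Finset.sum_insert (by simp [h2.symm]),
      Finset.sum_singleton] at hle
    have hFt : F triv = q := by
      have hd : charDegree ((triv : IrrCharacter (G1 K m)) : G1 K m → ℂ) = 1 := by
        have h := (CharArith.irr_degree_spec (triv : IrrCharacter (G1 K m))).1
        rw [triv_apply] at h
        exact_mod_cast h.symm
      simp only [hF, triv_apply, norm_one, one_pow, one_mul, hk1, hd, Nat.cast_one, mul_one, div_one]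
    have hFs : F St = 1 := by
      have hkr : (q : ℝ) * k St = (q : ℝ) ^ 3 := by exact_mod_cast hStk
      simp only [hF, hStx, norm_neg, norm_one, one_pow, one_mul, hStD, Nat.cast_pow, hkr]
      exact div_self (by positivity)
    have h0 : F χ = 0 := le_antisymm (by linarith) (hF0 χ)
    simp only [hF, div_eq_zero_iff, mul_eq_zero, pow_eq_zero_iff (two_ne_zero), norm_eq_zero,
      Nat.cast_eq_zero] at h0
    rcases h0 with (h | h | h) | h
    · exact Or.inl h
    · omega
    · refine Or.inr (three_dvd_degree hK χ ?_)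
      rw [hk, h, Nat.cast_zero, mul_zero]
    · exact absurd h (CharArith.irr_degree_spec χ).2.ne'
  -- column orthogonality
  have hcol := Char.regular_eq_sum x
  rw [if_neg hx1, ← Finset.add_sum_erase _ _ (Finset.mem_univ (triv : IrrCharacter (G1 K m))),
    ← Finset.add_sum_erase _ _ (Finset.mem_erase.2 ⟨hStne, Finset.mem_univ St⟩)] at hcol
  simp only [triv_apply, one_mul, hSt1, hStx] at hcol
  set R := ((Finset.univ : Finset (IrrCharacter (G1 K m))).erase triv).erase St
  let z : ℂ := ∑ χ ∈ R, ((charDegree (χ : G1 K m → ℂ) / 3 : ℕ) : ℂ) * (χ : G1 K m → ℂ) x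
  have hz3 : ∑ χ ∈ R, (χ : G1 K m → ℂ) 1 * (χ : G1 K m → ℂ) x = ((3 : ℕ) : ℂ) * z := by
    simp only [z, Finset.mul_sum]
    refine Finset.sum_congr rfl fun χ hχ => ?_
    simp only [R, Finset.mem_erase] at hχ
    rw [(CharArith.irr_degree_spec χ).1]
    rcases hrest χ hχ.2.1 hχ.1 with h | ⟨j, hj⟩
    · rw [h]; ring
    · rw [hj, Nat.mul_div_cancel_left _ (by norm_num : 0 < 3), Nat.cast_mul]
      ring
  rw [hz3] at hcol
  have hn : ∀ j : ℕ, IsIntegral ℤ (j : ℂ) := fun j => by
    simpa using isIntegral_algebraMap (R := ℤ) (A := ℂ) (x := (j : ℤ))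
  have hint : IsIntegral ℤ z := IsIntegral.sum _ fun χ _ =>
    (hn _).mul (Char.IsChar.isIntegral (Char.IsIrr.isCharacter χ.2) x)
  have hq1 : 1 ≤ q ^ 3 := Nat.one_le_pow _ _ (by omega)
  have h3 : 3 ∣ q ^ 3 - 1 := CharArith.dvd_of_eq_natCast_mul_isIntegral hint (by
    rw [Nat.cast_sub hq1, Nat.cast_one]
    linear_combination -hcol)
  have hq3 : 3 ∣ q ^ 3 := dvd_pow (dvd_pow_self 3 (by omega)) (by norm_num)
  omega

end Cfsg.Agent.ReeSquare
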