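import Cfsg.Agent.Char.Ortho
import Cfsg.Agent.CharArith.Valuation

/-!
Elements that are products of two conjugates of a given element, from bounds on character values.
-/

set_option autoImplicit false

namespace Cfsg.Agent.ReeSquare

open scoped ComplexConjugate
open Finset Char CharArith

universe u

variable {G : Type u} [Group G]

/-- `g` is a product of two conjugates of `x`. -/
def Covers (x g : G) : Prop := ∃ u v : G, g = (u * x * u⁻¹) * (v * x * v⁻¹)

theorem Covers.of_conj {x g : G} (a : G) (h : Covers (a * x * a⁻¹) g) : Covers x g := by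
  obtain ⟨u, v, e⟩ := h
  exact ⟨u * a, v * a, by rw [e]; group⟩

theorem Covers.conj {x g : G} (a : G) (h : Covers x g) : Covers x (a * g * a⁻¹) := by
  obtain ⟨u, v, e⟩ := h
  exact ⟨a * u, a * v, by rw [e]; group⟩

theorem Covers.of_conj_right {x g : G} (a : G) (h : Covers x (a * g * a⁻¹)) : Covers x g := by
  have := h.conj a⁻¹
  rwa [show a⁻¹ * (a * g * a⁻¹) * a⁻¹⁻¹ = g by group] at this

variable [Finite G]

/-- The trivial character. -/
noncomputable def triv : IrrCharacter G := ⟨fun _ => 1, isIrrCharacter_one⟩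

omit [Finite G] in
theorem triv_apply (g : G) : ((triv : IrrCharacter G) : G → ℂ) g = 1 := rfl

theorem sum_norm_sq (g : G) :
    ∑ χ : IrrCharacter G, ‖(χ : G → ℂ) g‖ ^ 2 =
      (Nat.card (Subgroup.centralizer ({g} : Set G)) : ℝ) := by
  classical
  have h := second_orthogonality g g
  rw [if_pos (IsConj.refl g)] at h
  simp only [Complex.mul_conj, ← Complex.ofReal_sum, ← Complex.sq_norm] at h
  have h' := congrArg Complex.re h
  simpa only [Complex.ofReal_re, Complex.natCast_re] using h'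

/-- The nontrivial irreducible characters. -/
noncomputable def nontriv : Finset (IrrCharacter G) := by
  classical exact (univ : Finset (IrrCharacter G)).erase triv

theorem mem_nontriv {χ : IrrCharacter G} : χ ∈ (nontriv : Finset (IrrCharacter G)) ↔ χ ≠ triv := by
  simp [nontriv]

theorem add_sum_nontriv {M : Type*} [AddCommMonoid M] (f : IrrCharacter G → M) :
    f triv + ∑ χ ∈ (nontriv : Finset (IrrCharacter G)), f χ = ∑ χ, f χ := by
  classical
  exact Finset.add_sum_erase _ _ (mem_univ _)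

theorem covers_of_lt {x g : G}
    (h : ∑ χ ∈ (nontriv : Finset (IrrCharacter G)),
      ‖(χ : G → ℂ) x‖ ^ 2 * ‖(χ : G → ℂ) g‖ / (charDegree (χ : G → ℂ) : ℝ) < 1) :
    Covers x g := by
  classical
  by_contra hc
  have h0 := sum_triple_eq_zero x x g⁻¹ fun a b e => hc ⟨a, b, by
    rw [← mul_assoc, mul_inv_eq_one] at e
    exact e.symm⟩
  rw [← add_sum_nontriv] at h0
  simp only [triv_apply, one_mul, div_one] at h0
  have hn := congrArg (fun z : ℂ => ‖z‖) (eq_neg_of_add_eq_zero_left h0)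
  simp only [norm_one, norm_neg] at hn
  refine absurd ((norm_sum_le _ _).trans_eq (Finset.sum_congr rfl fun χ _ => ?_)) (not_le.2 (hn ▸ h))
  rw [norm_div, norm_mul, norm_mul, (irr_degree_spec χ).1, Complex.norm_natCast,
    IsChar.inv_eq_conj (IsIrr.isCharacter χ.2), RCLike.norm_conj, sq]

theorem covers_of_crude {x g : G} {D₀ a b : ℕ} (hD₀ : 0 < D₀)
    (hdeg : ∀ χ : IrrCharacter G, χ ≠ triv → D₀ ≤ charDegree (χ : G → ℂ))
    (ha : Nat.card (Subgroup.centralizer ({x} : Set G)) ≤ a)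
    (hb : Nat.card (Subgroup.centralizer ({g} : Set G)) ≤ b)
    (h : a ^ 2 * b < D₀ ^ 2) : Covers x g := by
  refine covers_of_lt ?_
  have hD : (0 : ℝ) < D₀ := Nat.cast_pos.2 hD₀
  have hg : ∀ χ : IrrCharacter G, ‖(χ : G → ℂ) g‖ ≤ Real.sqrt b := fun χ => by
    refine Real.le_sqrt_of_sq_le ?_
    refine le_trans ?_ (Nat.cast_le.2 hb)
    rw [← sum_norm_sq g]
    exact Finset.single_le_sum (fun (ψ : IrrCharacter G) _ => sq_nonneg ‖(ψ : G → ℂ) g‖) (mem_univ χ)
  calc ∑ χ ∈ (nontriv : Finset (IrrCharacter G)),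
        ‖(χ : G → ℂ) x‖ ^ 2 * ‖(χ : G → ℂ) g‖ / (charDegree (χ : G → ℂ) : ℝ)
      ≤ ∑ χ ∈ (nontriv : Finset (IrrCharacter G)),
        ‖(χ : G → ℂ) x‖ ^ 2 * (Real.sqrt b / D₀) := by
        refine Finset.sum_le_sum fun χ hχ => ?_
        rw [mul_div_assoc]
        refine mul_le_mul_of_nonneg_left ?_ (sq_nonneg _)
        exact div_le_div₀ (Real.sqrt_nonneg _) (hg χ) hD
          (Nat.cast_le.2 (hdeg χ (mem_nontriv.1 hχ)))
    _ ≤ (a : ℝ) * (Real.sqrt b / D₀) := by
        rw [← Finset.sum_mul]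
        refine mul_le_mul_of_nonneg_right ?_ (by positivity)
        refine le_trans (Finset.sum_le_univ_sum_of_nonneg fun χ => sq_nonneg _) ?_
        rw [sum_norm_sq]
        exact Nat.cast_le.2 ha
    _ < 1 := by
        rw [← mul_div_assoc, div_lt_one hD]
        have h' : (a : ℝ) ^ 2 * b < (D₀ : ℝ) ^ 2 := by exact_mod_cast h
        refine lt_of_pow_lt_pow_left₀ 2 hD.le ?_
        rw [mul_pow, Real.sq_sqrt (Nat.cast_nonneg b)]
        exact h'

theorem covers_of_cauchy {x g : G} {c : ℕ} {s : ℝ}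
    (hc : Nat.card (Subgroup.centralizer ({g} : Set G)) ≤ c)
    (hs : ∑ χ ∈ (nontriv : Finset (IrrCharacter G)),
      ‖(χ : G → ℂ) x‖ ^ 4 / (charDegree (χ : G → ℂ) : ℝ) ^ 2 ≤ s)
    (h : s * c < 1) : Covers x g := by
  refine covers_of_lt (lt_of_pow_lt_pow_left₀ 2 zero_le_one ?_)
  rw [one_pow]
  calc (∑ χ ∈ (nontriv : Finset (IrrCharacter G)),
        ‖(χ : G → ℂ) x‖ ^ 2 * ‖(χ : G → ℂ) g‖ / (charDegree (χ : G → ℂ) : ℝ)) ^ 2
      = (∑ χ ∈ (nontriv : Finset (IrrCharacter G)),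
        (‖(χ : G → ℂ) x‖ ^ 2 / (charDegree (χ : G → ℂ) : ℝ)) * ‖(χ : G → ℂ) g‖) ^ 2 := by
        congr 1
        exact Finset.sum_congr rfl fun χ _ => by ring
    _ ≤ (∑ χ ∈ (nontriv : Finset (IrrCharacter G)),
          (‖(χ : G → ℂ) x‖ ^ 2 / (charDegree (χ : G → ℂ) : ℝ)) ^ 2) *
        ∑ χ ∈ (nontriv : Finset (IrrCharacter G)), ‖(χ : G → ℂ) g‖ ^ 2 :=
        Finset.sum_mul_sq_le_sq_mul_sq _ _ _
    _ ≤ s * c := by
        refine mul_le_mul ?_ ?_ (Finset.sum_nonneg fun _ _ => sq_nonneg _) ?_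
        · refine le_trans (le_of_eq ?_) hs
          exact Finset.sum_congr rfl fun χ _ => by rw [div_pow, ← pow_mul]
        · refine le_trans (Finset.sum_le_univ_sum_of_nonneg fun χ => sq_nonneg _) ?_
          rw [sum_norm_sq]
          exact Nat.cast_le.2 hc
        · exact le_trans (Finset.sum_nonneg fun _ _ => by positivity) hs
    _ < 1 := h

end Cfsg.Agent.ReeSquare
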