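import Cfsg.Agent.Chev.Ree.ToriThms
import Cfsg.Agent.Chev.Ree.MinDegree

/-!
The centralisers of the elements of the small Ree groups.
-/

set_option autoImplicit false
set_option maxRecDepth 100000
set_option maxHeartbeats 1000000

namespace Cfsg.Agent.ReeSquare

open Cfsg.Lie Cfsg.Agent.Chev Cfsg.Agent.Chev.Ree

universe u

theorem card_centralizer_conj {G : Type*} [Group G] (a g : G) :
    Nat.card (Subgroup.centralizer ({a * g * a⁻¹} : Set G)) =
      Nat.card (Subgroup.centralizer ({g} : Set G)) := by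
  refine Nat.card_congr
    ((MulAut.conj a).toEquiv.subtypeEquiv fun h => ?_).symm
  simp only [Subgroup.mem_centralizer_singleton_iff, MulEquiv.toEquiv_eq_coe, EquivLike.coe_coe,
    MulAut.conj_apply]
  constructor
  · intro e
    calc a * h * a⁻¹ * (a * g * a⁻¹) = a * (h * g) * a⁻¹ := by group
      _ = a * (g * h) * a⁻¹ := by rw [e]
      _ = a * g * a⁻¹ * (a * h * a⁻¹) := by group
  · intro e
    calc h * g = a⁻¹ * (a * h * a⁻¹ * (a * g * a⁻¹)) * a := by group
      _ = a⁻¹ * (a * g * a⁻¹ * (a * h * a⁻¹)) * a := by rw [e]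
      _ = g * h := by group

variable {K : Type u} [Field K] [Fintype K] [CharP K 3] {m : ℕ}
  (hK : Fintype.card K = 3 ^ (2 * m + 1))
include hK

theorem tw_tw (s : K) : tw m (tw m s) = s ^ 3 := by
  rw [tw_eq, tw_eq, isTheta hK]

theorem tw_fixed {s : K} (h : tw m s = s) : s = 0 ∨ s = 1 ∨ s = -1 := by
  have h3 : s ^ 3 = s := by rw [← tw_tw hK (m := m), h, h]
  have e : s * ((s - 1) * (s + 1)) = 0 := by linear_combination h3
  rcases mul_eq_zero.1 e with h | h
  · exact Or.inl h
  rcases mul_eq_zero.1 h with h | h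
  · exact Or.inr (Or.inl (sub_eq_zero.1 h))
  · exact Or.inr (Or.inr (eq_neg_of_add_eq_zero_left h))

/-- What commuting with an element of `U` says in coordinates. -/
theorem commute_data {h : G1 K m} {p : K × K × K} (hp : (rr p : G1 K m) ≠ 1)
    (hc : h * rr p = rr p * h) : ∃ (r : K × K × K) (c : Kˣ), h = rr r * tt hK c ∧
      (rr r : G1 K m) * rr ((lam m c : K) * p.1, (mu m c : K) * p.2.1, (c : K) * p.2.2) =
        rr p * rr r := by
  obtain ⟨r, c, rfl⟩ := (mem_B1 hK).1 (centralizer_le_B1 hK (rr_mem_U1 hK p) hp hc)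
  refine ⟨r, c, rfl, ?_⟩
  rw [← tt_conj_rr hK, ← mul_assoc, ← mul_assoc, hc, mul_assoc, mul_assoc, mul_inv_cancel, mul_one]

theorem centralizer_nine {p : K × K × K} (ht : p.1 ≠ 0) :
    Nat.card (Subgroup.centralizer ({rr p} : Set (G1 K m))) ≤ 3 * 3 ^ (2 * m + 1) := by
  classical
  obtain ⟨t, u, v⟩ := p
  simp only at ht
  have hp : (rr (t, u, v) : G1 K m) ≠ 1 := fun e => ht (congrArg Prod.fst (rr_eq_one e))
  have key : ∀ h : Subgroup.centralizer ({rr (t, u, v)} : Set (G1 K m)), ∃ r : K × K × K,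
      (h : G1 K m) = rr r ∧ (r.1 / t = 0 ∨ r.1 / t = 1 ∨ r.1 / t = -1) ∧
      r.2.1 = (tw m t * r.1 ^ 2 - tw m r.1 * t ^ 2 - r.1 * (u - tw m r.1 * t) -
        r.1 * (tw m t * t)) / (-t) + (0 : K) := by
    intro h
    obtain ⟨⟨a, b, e⟩, c, he, heq⟩ :=
      commute_data hK hp (Subgroup.mem_centralizer_singleton_iff.1 h.2)
    rw [rr_mul hK, rr_mul hK] at heq
    have h' := rr_injective heq
    simp only [Prod.mk.injEq] at h'
    obtain ⟨h1, h2, h3⟩ := h'
    have hl : (lam m c : K) = 1 := mul_right_cancel₀ ht (by linear_combination h1)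
    obtain rfl : c = 1 := lam_injective hK (by rw [map_one]; exact Units.ext hl)
    simp only [map_one, Units.val_one, one_mul] at h2 h3
    refine ⟨(a, b, e), by rw [he, map_one, mul_one], tw_fixed hK ?_, ?_⟩
    · rw [div_eq_mul_inv, tw_mul]
      have e1 : tw m t * tw m t⁻¹ = 1 := by rw [← tw_mul, mul_inv_cancel₀ ht, tw_one]
      have e2 : tw m a * t = tw m t * a := by linear_combination h2
      calc tw m a * tw m t⁻¹ = tw m a * t * tw m t⁻¹ * t⁻¹ := by field_simp
        _ = a * (tw m t * tw m t⁻¹) * t⁻¹ := by rw [e2]; ring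
        _ = a * t⁻¹ := by rw [e1, mul_one]
    · simp only [add_zero]
      rw [eq_div_iff (neg_ne_zero.2 ht)]
      linear_combination h3
  choose r hr hr1 hr2 using key
  let S : Finset K := {0, 1, -1}
  have hS : S.card ≤ 3 := Finset.card_le_three
  let F : Subgroup.centralizer ({rr (t, u, v)} : Set (G1 K m)) → S × K := fun h =>
    (⟨(r h).1 / t, by simpa [S] using hr1 h⟩, (r h).2.2)
  have hF : Function.Injective F := by
    intro a b e
    have e1 : (r a).1 = (r b).1 := by
      have := congrArg (fun z : S × K => (z.1 : K) * t) e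
      simpa [F, ht] using this
    have e3 : (r a).2.2 = (r b).2.2 := congrArg (fun z : S × K => z.2) e
    refine Subtype.ext ?_
    rw [hr a, hr b]
    congr 1
    exact Prod.ext e1 (Prod.ext (by rw [hr2 a, hr2 b, e1]) e3)
  refine (Nat.card_le_card_of_injective F hF).trans ?_
  rw [Nat.card_prod, Nat.card_eq_finsetCard, Nat.card_eq_fintype_card, hK]
  exact Nat.mul_le_mul_right _ hS

theorem centralizer_central {v : K} (hv : v ≠ 0) :
    Nat.card (Subgroup.centralizer ({rr (0, 0, v)} : Set (G1 K m))) ≤ (3 ^ (2 * m + 1)) ^ 3 := by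
  have hp : (rr (0, 0, v) : G1 K m) ≠ 1 := fun e =>
    hv (congrArg (fun z : K × K × K => z.2.2) (rr_eq_one e))
  have hle : Subgroup.centralizer ({rr (0, 0, v)} : Set (G1 K m)) ≤ U1 K m := by
    intro h hh
    obtain ⟨⟨a, b, e⟩, c, he, heq⟩ := commute_data hK hp (Subgroup.mem_centralizer_singleton_iff.1 hh)
    rw [rr_mul hK, rr_mul hK] at heq
    have h3 := congrArg (fun z : K × K × K => z.2.2) (rr_injective heq)
    simp only [mul_zero, tw_zero, zero_mul, sub_zero, ne_eq, OfNat.ofNat_ne_zero, not_false_eq_true,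
      zero_pow] at h3
    have hc1 : (c : K) = 1 := mul_right_cancel₀ hv (by linear_combination h3)
    obtain rfl : c = 1 := Units.ext hc1
    rw [he, map_one, mul_one]
    exact rr_mem_U1 hK _
  have := Subgroup.card_le_of_le hle
  rwa [card_U1_eq hK] at this

theorem centralizer_plane {u : K} (hu : u ≠ 0) :
    Nat.card (Subgroup.centralizer ({rr (0, u, 0)} : Set (G1 K m))) ≤
      2 * (3 ^ (2 * m + 1)) ^ 2 := by
  classical
  have hp : (rr (0, u, 0) : G1 K m) ≠ 1 := fun e =>
    hu (congrArg (fun z : K × K × K => z.2.1) (rr_eq_one e))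
  have key : ∀ h : Subgroup.centralizer ({rr (0, u, 0)} : Set (G1 K m)),
      ∃ (b e : K) (i : Bool), (h : G1 K m) = rr (0, b, e) * tt hK (if i then 1 else -1) := by
    intro h
    obtain ⟨⟨a, b, e⟩, c, he, heq⟩ :=
      commute_data hK hp (Subgroup.mem_centralizer_singleton_iff.1 h.2)
    rw [rr_mul hK, rr_mul hK] at heq
    have h' := rr_injective heq
    simp only [Prod.mk.injEq, mul_zero, tw_zero, zero_mul, sub_zero, ne_eq, OfNat.ofNat_ne_zero,
      not_false_eq_true, zero_pow, zero_add, add_zero] at h'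
    obtain ⟨-, h2, h3⟩ := h'
    have hm1 : mu m c = 1 := Units.ext (mul_right_cancel₀ hu (by rw [Units.val_one]; linear_combination h2))
    have ha : a = 0 := (mul_eq_zero.1 (show a * u = 0 by linear_combination h3)).resolve_right hu
    subst ha
    have hc2 : (c : K) ^ 2 = 1 := by rw [← Units.val_pow_eq_pow_val, mu_eq_one hK hm1, Units.val_one]
    rcases sq_eq_one_iff.1 hc2 with e' | e'
    · exact ⟨b, e, true, by rw [he, if_pos rfl, show c = 1 from Units.ext e']⟩
    · exact ⟨b, e, false, by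
        rw [he, if_neg Bool.false_ne_true,
          show c = -1 from Units.ext (by rw [e', Units.val_neg, Units.val_one])]⟩
  choose b e i hi using key
  let F : Subgroup.centralizer ({rr (0, u, 0)} : Set (G1 K m)) → Bool × K × K := fun h =>
    (i h, b h, e h)
  have hF : Function.Injective F := by
    intro x y exy
    simp only [F, Prod.mk.injEq] at exy
    obtain ⟨e1, e2, e3⟩ := exy
    exact Subtype.ext (by rw [hi x, hi y, e1, e2, e3])
  refine (Nat.card_le_card_of_injective F hF).trans (le_of_eq ?_)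
  rw [Nat.card_prod, Nat.card_prod, Nat.card_eq_fintype_card, Nat.card_eq_fintype_card (α := K), hK,
    Fintype.card_bool]
  ring

theorem centralizer_six {p : K × K × K} (hne : p.2.1 ≠ tw m p.1 * p.1) :
    Nat.card (Subgroup.centralizer ({rr p * invJ} : Set (G1 K m))) ≤ 2 * 3 ^ (2 * m + 1) := by
  classical
  obtain ⟨t, u, v⟩ := p
  simp only at hne
  set g : G1 K m := rr (t, u, v) * invJ with hg
  set C := Subgroup.centralizer ({g} : Set (G1 K m))
  set a := -u + tw m t * t with ha
  have ha0 : a ≠ 0 := fun e => hne (by linear_combination -e)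
  set p2 : K × K × K := (0, a, -(tw m t * t ^ 2) + t * u)
  have hgg : g * g = rr p2 := invJ_sq_form hK t u v
  have hp2 : (rr p2 : G1 K m) ≠ 1 := fun e =>
    ha0 (congrArg (fun z : K × K × K => z.2.1) (rr_eq_one e))
  have hgC : g ∈ C := Subgroup.mem_centralizer_singleton_iff.2 rfl
  have two : ∀ h ∈ C, ∃ (r : K × K × K) (c : Kˣ), h = rr r * tt hK c ∧
      ((c = 1 ∧ r.1 = 0) ∨ c = -1) := by
    intro h hh
    have hh' : h * g = g * h := Subgroup.mem_centralizer_singleton_iff.1 hh
    have hc : h * rr p2 = rr p2 * h := by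
      rw [← hgg, ← mul_assoc, hh', mul_assoc, hh', ← mul_assoc]
    obtain ⟨⟨r1, r2, r3⟩, c, he, heq⟩ := commute_data hK hp2 hc
    rw [rr_mul hK, rr_mul hK] at heq
    have h' := rr_injective heq
    simp only [p2, Prod.mk.injEq, mul_zero, tw_zero, zero_mul, sub_zero, ne_eq, OfNat.ofNat_ne_zero,
      not_false_eq_true, zero_pow, zero_add, add_zero] at h'
    obtain ⟨-, h2, h3⟩ := h'
    have hm1 : mu m c = 1 := Units.ext (mul_right_cancel₀ ha0 (by rw [Units.val_one]; linear_combination h2))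
    have hc2 : (c : K) ^ 2 = 1 := by rw [← Units.val_pow_eq_pow_val, mu_eq_one hK hm1, Units.val_one]
    refine ⟨_, c, he, ?_⟩
    rcases sq_eq_one_iff.1 hc2 with e' | e'
    · obtain rfl : c = 1 := Units.ext e'
      refine Or.inl ⟨rfl, (mul_eq_zero.1 (show r1 * a = 0 from ?_)).resolve_right ha0⟩
      rw [Units.val_one, one_mul] at h3
      linear_combination h3
    · exact Or.inr (Units.ext (by rw [e', Units.val_neg, Units.val_one]))
  have hone : ∀ h ∈ C, h ∈ U1 K m → ∃ b : K, h = rr (0, b, t * b / 2) := by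
    intro h hh hU
    obtain ⟨r', hr'⟩ := (mem_U1 hK).1 hU
    obtain ⟨⟨r1, r2, r3⟩, c, he, hcase⟩ := two h hh
    have hcr : c = 1 := ((rr_tt_unique hK (show (rr r' : G1 K m) * tt hK 1 = rr (r1, r2, r3) * tt hK c by
      rw [map_one, mul_one, ← he]; exact hr'.symm)).2).symm
    subst hcr
    rw [map_one, mul_one] at he
    rcases hcase with ⟨-, h0⟩ | hneg
    · simp only at h0
      subst h0
      refine ⟨r2, ?_⟩
      have hh' : h * g = g * h := Subgroup.mem_centralizer_singleton_iff.1 hh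
      have hJ : invJ * (rr (0, r2, r3) : G1 K m) = rr (0, r2, -r3) * invJ := by
        rw [← mul_inv_eq_iff_eq_mul, invJ_conj_rr hK, neg_zero]
      rw [hg, he, ← mul_assoc, mul_assoc (rr (t, u, v)) invJ, hJ, ← mul_assoc] at hh'
      have h5 := mul_right_cancel hh'
      rw [rr_mul hK, rr_mul hK] at h5
      have h4 := congrArg (fun z : K × K × K => z.2.2) (rr_injective h5)
      simp only [tw_zero, zero_mul, sub_zero, mul_zero, ne_eq, OfNat.ofNat_ne_zero, not_false_eq_true,
        zero_pow] at h4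
      have h2 : (2 : K) ≠ 0 := fun e => by
        have := (CharP.cast_eq_zero_iff K 3 2).1 (by exact_mod_cast e)
        omega
      rw [he]
      congr 1
      refine Prod.ext rfl (Prod.ext rfl ?_)
      show r3 = t * r2 / 2
      rw [eq_div_iff h2]
      linear_combination h4
    · exact absurd hneg.symm neg_one_ne_one
  have key : ∀ h : C, ∃ (i : Bool) (b : K),
      (h : G1 K m) * (if i then 1 else g) = rr (0, b, t * b / 2) := by
    intro h
    obtain ⟨r, c, he, hcase⟩ := two h.1 h.2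
    rcases hcase with ⟨rfl, -⟩ | rfl
    · obtain ⟨b, hb⟩ := hone h.1 h.2 (by rw [he, map_one, mul_one]; exact rr_mem_U1 hK r)
      exact ⟨true, b, by rw [if_pos rfl, mul_one, hb]⟩
    · have hU : (h : G1 K m) * g ∈ U1 K m := by
        obtain ⟨r', hr'⟩ := B1_mul hK (m := m) r (t, u, v) (-1) (-1)
        rw [neg_one_mul, neg_neg, map_one, mul_one, tt_neg_one hK] at hr'
        rw [he, hg, tt_neg_one hK, hr']
        exact rr_mem_U1 hK r'
      obtain ⟨b, hb⟩ := hone _ (mul_mem h.2 hgC) hU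
      exact ⟨false, b, by rw [if_neg Bool.false_ne_true, hb]⟩
  choose i b hb using key
  have hF : Function.Injective fun h : C => (i h, b h) := by
    intro x y exy
    simp only [Prod.mk.injEq] at exy
    have hx := hb x
    rw [exy.1, exy.2, ← hb y] at hx
    exact Subtype.ext (mul_right_cancel hx)
  refine (Nat.card_le_card_of_injective _ hF).trans (le_of_eq ?_)
  rw [Nat.card_prod, Nat.card_eq_fintype_card, Nat.card_eq_fintype_card (α := K), hK, Fintype.card_bool]

theorem centralizer_invJ_le :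
    Nat.card (Subgroup.centralizer ({invJ} : Set (G1 K m))) ≤ (3 ^ (2 * m + 1)) ^ 3 := by
  rw [card_centralizer_invJ hK]
  have : 1 ≤ 3 ^ (2 * m + 1) := Nat.one_le_pow _ _ (by norm_num)
  obtain ⟨k, hk⟩ : ∃ k, 3 ^ (2 * m + 1) = k + 1 := ⟨_, (Nat.sub_add_cancel this).symm⟩
  rw [hk, Nat.add_sub_cancel]
  nlinarith

/-- The kinds of nontrivial elements by centralisers. -/
theorem elem_cases (hm : 1 ≤ m) {g : G1 K m} (hg : g ≠ 1) :
    Nat.card (Subgroup.centralizer ({g} : Set (G1 K m))) ≤ 3 * 3 ^ (2 * m + 1) ∨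
    (∃ a, a * g * a⁻¹ = invJ) ∨ (∃ a, ∃ u : K, u ≠ 0 ∧ a * g * a⁻¹ = rr (0, u, 0)) ∨
    ∃ a, ∃ v : K, v ≠ 0 ∧ a * g * a⁻¹ = rr (0, 0, v) := by
  by_cases h3 : 3 ∣ orderOf g
  · obtain ⟨a, ha⟩ := order_three_conj hK h3
    obtain ⟨⟨t, u, v⟩, c, e⟩ := (mem_B1 hK).1 ha
    have ho : 3 ∣ orderOf (rr (t, u, v) * tt hK c : G1 K m) := by rwa [← e, orderOf_conj_eq]
    rcases B1_order_cases hK ho with ⟨rfl, ⟨ht, ho3⟩ | ⟨ht, -⟩⟩ | ⟨rfl, hne, -⟩
    · rw [map_one, mul_one] at e
      simp only at ht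
      subst ht
      by_cases hu : u = 0
      · subst hu
        refine Or.inr (Or.inr (Or.inr ⟨a, v, fun hv => ?_, e⟩))
        rw [hv, rr_zero] at e
        exact hg (conj_eq_one_iff.1 e)
      · refine Or.inr (Or.inr (Or.inl ⟨rr (-v / u, 0, 0) * a, u, hu, ?_⟩))
        rw [show rr (-v / u, 0, 0) * a * g * (rr (-v / u, 0, 0) * a)⁻¹ =
          rr (-v / u, 0, 0) * (a * g * a⁻¹) * (rr (-v / u, 0, 0))⁻¹ by group, e, rr_plane_conj hK,
          div_mul_cancel₀ _ hu, add_neg_cancel]
    · rw [map_one, mul_one] at e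
      exact Or.inl (by rw [← card_centralizer_conj a, e]; exact centralizer_nine hK ht)
    · rw [tt_neg_one hK] at e
      refine Or.inl ?_
      rw [← card_centralizer_conj a, e]
      exact (centralizer_six hK hne).trans (Nat.mul_le_mul_right _ (by norm_num))
  · rcases Nat.lt_or_ge 2 (orderOf g) with h2 | h2
    · obtain ⟨p, hp, hp2, hpg⟩ := exists_odd_prime hK h2
      have hp3 : p ≠ 3 := fun e => h3 (e ▸ hpg)
      obtain ⟨T, a, hT, -, hTconj⟩ := exists_qtorus hK hm (m := m) (K := K)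
      obtain ⟨A, B, hA, hB, hAc, hBc, -, -⟩ := exists_two_singers hK hm (m := m) (K := K)
      refine Or.inl ?_
      have hrq := pow_succ_le m
      have h27 := le_pow_odd hm
      rcases exists_conj_torus hK hTconj hA hB hAc hBc hp hp2 hp3 hpg with
        ⟨w, c, hc, e⟩ | ⟨w, hw, hw2⟩ | ⟨w, hw, hw1⟩ | ⟨w, hw, hw1⟩ <;>
        rw [← card_centralizer_conj w]
      · rw [e, centralizer_tt hK hc, card_H1_eq hK]; omega
      · rw [hT.torus.cent _ hw hw2, hT.card]; omega
      · rw [hA.cent _ hw hw1, hAc]; omega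
      · rw [hB.cent _ hw hw1, hBc]; omega
    · have h1 : orderOf g ≠ 1 := fun e => hg (orderOf_eq_one_iff.1 e)
      have h0 := orderOf_pos g
      have he : orderOf g = 2 := by omega
      obtain ⟨a, ha⟩ := involutions_conj hK hm (i := g) (by
        rw [← pow_two]; exact orderOf_dvd_iff_pow_eq_one.1 (dvd_of_eq he)) hg
      exact Or.inr (Or.inl ⟨a⁻¹, by rw [← ha]; group⟩)

theorem centralizer_le_cube (hm : 1 ≤ m) {g : G1 K m} (hg : g ≠ 1) :
    Nat.card (Subgroup.centralizer ({g} : Set (G1 K m))) ≤ (3 ^ (2 * m + 1)) ^ 3 := by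
  have h27 := le_pow_odd hm
  rcases elem_cases hK hm hg with h | ⟨a, e⟩ | ⟨a, u, hu, e⟩ | ⟨a, v, hv, e⟩
  · refine h.trans ?_
    rw [pow_succ (3 ^ (2 * m + 1)) 2]
    exact Nat.mul_le_mul_right _ (by nlinarith)
  · rw [← card_centralizer_conj a, e]; exact centralizer_invJ_le hK
  · rw [← card_centralizer_conj a, e]
    refine (centralizer_plane hK hu).trans ?_
    rw [pow_succ' (3 ^ (2 * m + 1)) 2]
    exact Nat.mul_le_mul_right _ (by omega)
  · rw [← card_centralizer_conj a, e]; exact centralizer_central hK hv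

end Cfsg.Agent.ReeSquare
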