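import Cfsg.Agent.ReeSquare.Criterion
import Cfsg.Agent.ReeSquare.Unip
import Cfsg.Agent.Char.Linear

/-!
The degrees of the nontrivial characters of the small Ree groups.
-/

set_option autoImplicit false
set_option maxRecDepth 100000

namespace Cfsg.Agent.ReeSquare

open Cfsg.Lie Cfsg.Agent.Chev Cfsg.Agent.Chev.Ree

universe u

variable {K : Type u} [Field K] [Fintype K] [CharP K 3] {m : ℕ}
  (hK : Fintype.card K = 3 ^ (2 * m + 1))
include hK

theorem deg_ge (hm : 1 ≤ m) (χ : IrrCharacter (G1 K m)) (hχ : χ ≠ triv) :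
    (3 ^ (2 * m + 1)) ^ 2 - 3 ^ (2 * m + 1) + 1 ≤ charDegree (χ : G1 K m → ℂ) := by
  obtain ⟨hd, hd0⟩ := CharArith.irr_degree_spec χ
  rcases Nat.lt_or_ge 1 (charDegree (χ : G1 K m → ℂ)) with h | h
  · obtain ⟨n, ρ, hρ, e⟩ := χ.2
    rw [← e] at hd
    rw [ρ.char_one, Module.finrank_fin_fun] at hd
    have hn : n = charDegree ρ.character := by exact_mod_cast hd
    rw [← e]
    rw [← e] at h
    rw [← hn] at h ⊢
    exact min_degree hK hm ρ hρ h
  · exfalso
    have h1 : (χ : G1 K m → ℂ) 1 = 1 := by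
      rw [hd, show charDegree (χ : G1 K m → ℂ) = 1 by omega, Nat.cast_one]
    obtain ⟨f, hf⟩ := Char.IsChar.exists_hom (Char.IsIrr.isCharacter χ.2) h1
    refine hχ (Subtype.ext (funext fun g => ?_))
    rw [hf, triv_apply]
    show ((f g : ℂˣ) : ℂ) = 1
    rw [Char.hom_commutator_eq_one f (g := g) (by rw [commutator_eq hK hm]; exact Subgroup.mem_top g),
      Units.val_one]

end Cfsg.Agent.ReeSquare
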