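import Cfsg.Agent.ReeSquare.Filters
import Cfsg.Agent.ReeSquare.Degree
import Cfsg.Agent.Char.Integral

/-!
The degrees of the characters exceptional on a self-centralising torus are large.
-/

set_option autoImplicit false
set_option maxRecDepth 100000
set_option maxHeartbeats 1000000

namespace Cfsg.Agent.ReeSquare

open Cfsg.Lie Cfsg.Agent.Chev Cfsg.Agent.Chev.Ree

universe u

theorem dvd_of_near {D C M B : ℕ} (h : D % C * (C - D % C) * M ≤ B) (hlt : B < (C - 1) * M)
    (hC : 0 < C) : C ∣ D := by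
  refine Nat.dvd_of_mod_eq_zero (Nat.eq_zero_of_not_pos fun hr => ?_)
  have hrC := Nat.mod_lt D hC
  have h1 : C - 1 ≤ D % C * (C - D % C) := by
    obtain ⟨a, ha⟩ : ∃ a, D % C = a + 1 := ⟨D % C - 1, by omega⟩
    obtain ⟨b, hb⟩ : ∃ b, C - D % C = b + 1 := ⟨C - D % C - 1, by omega⟩
    rw [hb, ha]
    calc C - 1 ≤ a + b + 1 := by omega
      _ ≤ (a + 1) * (b + 1) := by nlinarith
  have := Nat.mul_le_mul_right M h1
  omega

/-- The finite check for `q = 27`. -/
def badDegree (M M' D : ℕ) : Bool :=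
  (D % M == 5 || D % M == 6 || D % M == 7 || D % M == M - 5 || D % M == M - 6 || D % M == M - 7) &&
  (10073444472 % D == 0) && decide (D % M' * (M' - D % M') * M ≤ 36 * M') &&
  (decide (D % 729 * (D % 729) * M ≤ 118098) || decide ((729 - D % 729) * (729 - D % 729) * M ≤ 118098))

theorem check_small : (List.range 6833).all (fun j => !badDegree 19 37 (703 + j)) = true := by
  decide +kernel

theorem check_large : (List.range 9813).all (fun j => !badDegree 37 19 (703 + j)) = true := by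
  decide +kernel

theorem not_badDegree {M M' T D : ℕ}
    (hchk : (List.range T).all (fun j => !badDegree M M' (703 + j)) = true)
    (h1 : 703 ≤ D) (h2 : D < 703 + T) : badDegree M M' D = false := by
  have h := List.all_eq_true.1 hchk (D - 703) (List.mem_range.2 (by omega))
  rwa [show 703 + (D - 703) = D by omega, Bool.not_eq_true'] at h

theorem badDegree_of {M M' D : ℕ} (hM : 8 ≤ M) {f e : ℤ} (hf : f = -1 ∨ f = 0 ∨ f = 1)
    (he : e = -1 ∨ e = 1) (hd : (M : ℤ) ∣ (D : ℤ) - (f + 6 * e)) (hG : D ∣ 10073444472)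
    (h1 : D % M' * (M' - D % M') * M ≤ 36 * M') {n : ℕ}
    (h2 : ((D : ℤ) - (729 * n : ℕ)) ^ 2 * (M : ℤ) ≤ 118098) : badDegree M M' D = true := by
  have hres : D % M = 5 ∨ D % M = 6 ∨ D % M = 7 ∨ D % M = M - 5 ∨ D % M = M - 6 ∨ D % M = M - 7 := by
    obtain ⟨c, hc⟩ := hd
    have e1 : ((D % M : ℕ) : ℤ) = (f + 6 * e) % (M : ℤ) := by
      rw [Int.natCast_mod, show (D : ℤ) = f + 6 * e + M * c by linarith, Int.add_mul_emod_self_left]
    have e2 : (f + 6 * e) % (M : ℤ) = if 0 ≤ f + 6 * e then f + 6 * e else f + 6 * e + M := by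
      split_ifs with h
      · exact Int.emod_eq_of_lt h (by omega)
      · rw [← Int.add_emod_right]
        exact Int.emod_eq_of_lt (by omega) (by omega)
    rw [e2] at e1
    split_ifs at e1 <;> omega
  have hz : D % 729 * (D % 729) * M ≤ 118098 ∨ (729 - D % 729) * (729 - D % 729) * M ≤ 118098 := by
    set w := ((D : ℤ) - (729 * n : ℕ)).natAbs with hw
    have h' : w * w * M ≤ 118098 := by
      have e : ((w * w * M : ℕ) : ℤ) = ((D : ℤ) - (729 * n : ℕ)) ^ 2 * (M : ℤ) := by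
        rw [Nat.cast_mul, Nat.cast_mul, hw, Int.natCast_natAbs, abs_mul_abs_self]
        ring
      omega
    have hor : D % 729 ≤ w ∨ 729 - D % 729 ≤ w := by omega
    rcases hor with h | h
    · exact Or.inl ((Nat.mul_le_mul_right M (Nat.mul_le_mul h h)).trans h')
    · exact Or.inr ((Nat.mul_le_mul_right M (Nat.mul_le_mul h h)).trans h')
  simp only [badDegree, Bool.and_eq_true, Bool.or_eq_true, beq_iff_eq, decide_eq_true_eq]
  exact ⟨⟨⟨by omega, Nat.mod_eq_zero_of_dvd hG⟩, h1⟩, hz⟩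

variable {K : Type u} [Field K] [Fintype K] [CharP K 3] {m : ℕ}
  (hK : Fintype.card K = 3 ^ (2 * m + 1))
include hK

/-- The small case. -/
theorem exc_deg_small [Fintype (G1 K m)] (h1 : m = 1) {A B : Subgroup (G1 K m)} {r Φ : ℕ}
    (hA : Sing6 A r) (hB : IsSinger Φ B) (hNB : Nat.card (Subgroup.normalizer (B : Set (G1 K m))) = 6 * Nat.card B)
    (hAB : Nat.card A = 19 ∧ Nat.card B = 37 ∨ Nat.card A = 37 ∧ Nat.card B = 19)
    {χ : IrrCharacter (G1 K m)} (hne : χ ≠ triv) (hχ : Exc A χ) :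
    (if Nat.card A = 19 then 7536 else 10516) ≤ charDegree (χ : G1 K m → ℂ) := by
  subst h1
  have hD := deg_ge hK le_rfl χ hne
  norm_num at hD
  have hG : charDegree (χ : G1 K 1 → ℂ) ∣ 10073444472 := by
    have h := Char.IsIrr.degree_dvd_card χ.2 (CharArith.irr_degree_spec χ).1
    rw [card_G1_prod hK] at h
    norm_num at h
    exact h
  obtain ⟨f, e, hf, he, hd⟩ := hχ.2.1
  have h3 : ¬ 3 ∣ Nat.card A := by rcases hAB with ⟨h, -⟩ | ⟨h, -⟩ <;> rw [h] <;> norm_num
  obtain ⟨n, hn⟩ := filter_central hK hA h3 hχ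
  norm_num at hn
  have hb := filter_torus hA hχ B (Subgroup.normalizer (B : Set (G1 K 1)))
    (fun a ha b hb => comm_of_isCyclic hB.cyclic ha hb)
    (by rcases hAB with ⟨h, h'⟩ | ⟨h, h'⟩ <;> rw [h, h'] <;> norm_num)
    (fun g y hy hy1 hgy => hB.ti g y hy hy1 hgy)
  rw [hNB] at hb
  have hbad := badDegree_of (M := Nat.card A) (M' := Nat.card B) (D := charDegree (χ : G1 K 1 → ℂ))
    (by rcases hAB with ⟨h, -⟩ | ⟨h, -⟩ <;> omega) hf he hd hG (by omega) (n := n) (by push_cast; exact hn)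
  rcases hAB with ⟨h, h'⟩ | ⟨h, h'⟩ <;> rw [h, h'] at hbad <;> rw [h] <;> by_contra hlt <;>
    norm_num at hlt
  · rw [not_badDegree check_small (by omega) (by omega)] at hbad
    exact Bool.false_ne_true hbad
  · rw [not_badDegree check_large (by omega) (by omega)] at hbad
    exact Bool.false_ne_true hbad

/-- The general case. -/
theorem exc_deg_large [Fintype (G1 K m)] (hm : 2 ≤ m) {A B : Subgroup (G1 K m)} {r Φ : ℕ}
    (hA : Sing6 A r) (hB : IsSinger Φ B) (hNB : Nat.card (Subgroup.normalizer (B : Set (G1 K m))) = 6 * Nat.card B)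
    (hcard : Nat.card A * Nat.card B = (3 ^ (2 * m + 1)) ^ 2 - 3 ^ (2 * m + 1) + 1)
    (hA2 : 4 * Nat.card A ≥ 3 * 3 ^ (2 * m + 1)) (hB2 : 4 * Nat.card B ≥ 3 * 3 ^ (2 * m + 1))
    (hcop : Nat.Coprime (Nat.card A) (Nat.card B))
    {χ : IrrCharacter (G1 K m)} (hχ : Exc A χ) :
    (3 ^ (2 * m + 1)) ^ 3 ≤ 16 * charDegree (χ : G1 K m → ℂ) := by
  classical
  set q := 3 ^ (2 * m + 1) with hq
  have h8 : q % 8 = 3 := pow_odd_mod m
  have h243 : 243 ≤ q := (show 243 = 3 ^ 5 by norm_num) ▸ Nat.pow_le_pow_right (by norm_num) (by omega)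
  set D := charDegree (χ : G1 K m → ℂ) with hD
  set M := Nat.card A with hM
  set Φ' := q ^ 2 - q + 1 with hΦ
  have hΦA : M ∣ Φ' := ⟨_, hcard.symm⟩
  have hΦB : Nat.card B ∣ Φ' := ⟨_, by rw [← hcard, mul_comm]⟩
  have cop : ∀ n : ℕ, n ∣ q - 1 ∨ n ∣ q + 1 → Odd n → ∀ k, k ∣ Φ' → ¬ 3 ∣ k → Nat.Coprime k n := by
    intro n hn hno k hk hk3
    refine Nat.coprime_of_dvd fun p hp hpk hpn => ?_
    have hpf := prime_facts (q := q) (by omega) hp
    rcases hn with hn | hn
    · exact hpf.2.2.1 ⟨hpn.trans hn, hpk.trans hk⟩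
    · have h3 := hpf.2.1 (hpn.trans hn) (hpk.trans hk)
      exact hk3 (h3 ▸ hpk)
  have h3Φ : ¬ 3 ∣ Φ' := by
    intro h
    have hpf := prime_facts (q := q) (by omega) Nat.prime_three
    exact hpf.2.2.2.2.2 ⟨dvd_pow_self 3 (by omega), h⟩
  -- the other Singer torus
  have d1 : Nat.card B ∣ D := by
    have h := filter_torus hA hχ B (Subgroup.normalizer (B : Set (G1 K m)))
      (fun a ha b hb => comm_of_isCyclic hB.cyclic ha hb) hcop
      (fun g y hy hy1 hgy => hB.ti g y hy hy1 hgy)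
    rw [hNB] at h
    refine dvd_of_near h ?_ Nat.card_pos
    obtain ⟨b, hb⟩ : ∃ b, Nat.card B = b + 2 := ⟨Nat.card B - 2, by omega⟩
    rw [hb, show b + 2 - 1 = b + 1 by omega]
    calc 6 * (6 * (b + 2)) < 182 * (b + 1) := by omega
      _ ≤ (b + 1) * M := by rw [mul_comm]; exact Nat.mul_le_mul_left _ (by omega)
  -- the split torus
  obtain ⟨γ, hγ⟩ := exists_generator_units hK (m := m) (K := K)
  set w : G1 K m := tt hK (γ ^ 2) with hw
  have hwo : orderOf w = (q - 1) / 2 := by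
    rw [hw, orderOf_injective _ (tt_injective hK), orderOf_pow_of_dvd two_ne_zero (by rw [hγ]; omega), hγ]
  have hhodd : Odd ((q - 1) / 2) := Nat.odd_iff.2 (by omega)
  have d2 : (q - 1) / 2 ∣ D := by
    have hle : Subgroup.zpowers w ≤ H1 hK := Subgroup.zpowers_le.2 ((mem_H1 hK).2 ⟨_, rfl⟩)
    obtain ⟨c, hc⟩ := exists_sq_units hK (show 1 ≤ m by omega) (K := K) (m := m)
    have hN : Nat.card (Subgroup.normalizer ((H1 hK : Subgroup (G1 K m)) : Set (G1 K m))) = 2 * (q - 1) := by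
      rw [normalizer_of_le_H1 hK le_rfl ⟨c, hc, (mem_H1 hK).2 ⟨c, rfl⟩⟩, card_N1 hK]
    have h := filter_torus hA hχ (Subgroup.zpowers w)
      (Subgroup.normalizer ((H1 hK : Subgroup (G1 K m)) : Set (G1 K m)))
      (fun a ha b hb => (isTorus_H1 hK).comm a (hle ha) b (hle hb))
      (by
        rw [Nat.card_zpowers, hwo]
        exact cop _ (Or.inl (Nat.div_dvd_of_dvd (by omega))) hhodd _ hΦA
          (fun h => h3Φ (h.trans hΦA)))
      (fun g y hy hy1 hgy => (isTorus_H1 hK).ti g y (hle hy)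
        (sq_ne_one_of_odd (odd_orderOf_of_mem (by rw [Nat.card_zpowers, hwo]; exact hhodd) hy) hy1)
        (hle hgy))
    rw [hN, Nat.card_zpowers, hwo] at h
    refine dvd_of_near h ?_ (by omega)
    calc 6 * (2 * (q - 1)) < ((q - 1) / 2 - 1) * 182 := by omega
      _ ≤ _ := Nat.mul_le_mul_left _ (by omega)
  -- the torus of order q + 1
  obtain ⟨T, a, hT, -, -⟩ := exists_qtorus hK (show 1 ≤ m by omega) (m := m) (K := K)
  have d3 : (q + 1) / 4 ∣ D := by
    have h := filter_torus hA hχ (Subgroup.zpowers a) (Subgroup.normalizer (T : Set (G1 K m)))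
      (fun x hx y hy => hT.torus.comm x (hT.zpowers_le hx) y (hT.zpowers_le hy))
      (by
        rw [hT.card_zpowers]
        exact cop _ (Or.inr (Nat.div_dvd_of_dvd (by omega))) hT.odd _ hΦA (fun h => h3Φ (h.trans hΦA)))
      (fun g y hy hy1 hgy => hT.torus.ti g y (hT.zpowers_le hy)
        (sq_ne_one_of_odd (odd_orderOf_of_mem (by rw [hT.card_zpowers]; exact hT.odd) hy) hy1)
        (hT.zpowers_le hgy))
    rw [hT.normalizer, hT.card_zpowers] at h
    refine dvd_of_near h ?_ (by omega)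
    calc 6 * (6 * (q + 1)) < ((q + 1) / 4 - 1) * 182 := by omega
      _ ≤ _ := Nat.mul_le_mul_left _ (by omega)
  have c12 : Nat.Coprime (Nat.card B) ((q - 1) / 2) :=
    cop _ (Or.inl (Nat.div_dvd_of_dvd (by omega))) hhodd _ hΦB (fun h => h3Φ (h.trans hΦB))
  have c13 : Nat.Coprime (Nat.card B) ((q + 1) / 4) :=
    cop _ (Or.inr (Nat.div_dvd_of_dvd (by omega))) hT.odd _ hΦB (fun h => h3Φ (h.trans hΦB))
  have c23 : Nat.Coprime ((q - 1) / 2) ((q + 1) / 4) := by
    refine Nat.coprime_of_dvd fun p hp h1 h2 => ?_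
    have hpf := prime_facts (q := q) (by omega) hp
    have := hpf.1 (h1.trans (Nat.div_dvd_of_dvd (by omega))) (h2.trans (Nat.div_dvd_of_dvd (by omega)))
    subst this
    obtain ⟨k, hk⟩ := hhodd
    omega
  have hdvd := (c13.mul_left c23).mul_dvd_of_dvd_of_dvd (c12.mul_dvd_of_dvd_of_dvd d1 d2) d3
  have hpos : 0 < D := (CharArith.irr_degree_spec χ).2
  have hle := Nat.le_of_dvd hpos hdvd
  obtain ⟨j, hj⟩ : ∃ j, q = 8 * j + 3 := ⟨q / 8, by omega⟩
  rw [show (q - 1) / 2 = 4 * j + 1 by omega, show (q + 1) / 4 = 2 * j + 1 by omega] at hle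
  rw [hj] at hB2 h243 ⊢
  have h16 := Nat.mul_le_mul_right (4 * (4 * j + 1) * (2 * j + 1)) hB2
  calc (8 * j + 3) ^ 3 = (8 * j + 3) * (8 * j + 3) ^ 2 := by ring
    _ ≤ (8 * j + 3) * (12 * ((4 * j + 1) * (2 * j + 1))) := Nat.mul_le_mul_left _ (by nlinarith)
    _ = 3 * (8 * j + 3) * (4 * (4 * j + 1) * (2 * j + 1)) := by ring
    _ ≤ 4 * Nat.card B * (4 * (4 * j + 1) * (2 * j + 1)) := h16
    _ = 16 * (Nat.card B * (4 * j + 1) * (2 * j + 1)) := by ring
    _ ≤ 16 * D := Nat.mul_le_mul_left _ hle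

end Cfsg.Agent.ReeSquare
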