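import Cfsg.Agent.ReeSquare.SingerChar
import Cfsg.Agent.ReeSquare.Unip

/-!
Divisibility and congruences for the degrees of the characters exceptional on a self-centralising
torus, from the part of the norm left outside its conjugates.
-/

set_option autoImplicit false
set_option maxRecDepth 100000
set_option maxHeartbeats 1000000

namespace Cfsg.Agent.ReeSquare

open Cfsg.Lie Cfsg.Agent.Chev Cfsg.Agent.Chev.Ree
open scoped ComplexConjugate

universe u

/-- Another torus: the degree is near a multiple of its order. -/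
theorem filter_torus {G : Type*} [Group G] [Fintype G] {A : Subgroup G} {r : ℕ} (hA : Sing6 A r)
    {χ : IrrCharacter G} (hχ : Exc A χ) (C N : Subgroup G)
    (hcomm : ∀ a ∈ C, ∀ b ∈ C, a * b = b * a) (hcop : Nat.Coprime (Nat.card A) (Nat.card C))
    (hti : ∀ g, ∀ y ∈ C, y ≠ 1 → g * y * g⁻¹ ∈ C → g ∈ N) :
    charDegree (χ : G → ℂ) % Nat.card C * (Nat.card C - charDegree (χ : G → ℂ) % Nat.card C) *
      Nat.card A ≤ 6 * Nat.card N := by
  classical
  haveI : Fintype C := Fintype.ofFinite _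
  have h := hA.slack hχ (sharp C) N
    (fun g d hd hd' => hti g d (mem_sharp.1 hd).1 (mem_sharp.1 hd).2 (mem_sharp.1 hd').1)
    (fun g d hd hd' => by
      have h1 := Subgroup.orderOf_dvd_natCard _ (mem_sharp.1 hd).1
      have h2 := Subgroup.orderOf_dvd_natCard _ (mem_sharp.1 hd').1
      rw [← MulAut.conj_apply, MulEquiv.orderOf_eq] at h2
      exact (mem_sharp.1 hd).2 (orderOf_eq_one_iff.1 (Nat.eq_one_of_dvd_coprimes hcop h1 h2)))
  have hge := norm_away_ge (H := C) (fun a b => Subtype.ext (hcomm a a.2 b b.2))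
    (Char.isCharacter_res C (Char.IsIrr.isCharacter χ.2)) (D := charDegree (χ : G → ℂ))
    (by rw [OneMemClass.coe_one]; exact (CharArith.irr_degree_spec χ).1)
  rw [sum_sharp C, norm_one_eq] at h
  have hle := (mul_le_mul_of_nonneg_right hge (Nat.cast_nonneg (α := ℝ) (Nat.card A))).trans
    ((mul_comm _ _).trans_le h)
  exact_mod_cast hle

variable {K : Type u} [Field K] [Fintype K] [CharP K 3] {m : ℕ}
  (hK : Fintype.card K = 3 ^ (2 * m + 1))
include hK

/-- The degree and the value at a central unipotent element are congruent modulo `q²`. -/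
theorem congr_central (χ : IrrCharacter (G1 K m)) :
    ∃ n : ℕ, (χ : G1 K m → ℂ) (rr (0, 0, 1)) =
      (charDegree (χ : G1 K m → ℂ) : ℂ) - ((3 ^ (2 * m + 1)) ^ 2 : ℕ) * n := by
  classical
  obtain ⟨e, he⟩ := AddChar.exists_apply_ne_zero.2 (one_ne_zero (α := K))
  have he0 : e ≠ 0 := AddChar.ne_zero_iff.2 ⟨1, he⟩
  let F : Multiplicative (K × K) →* G1 K m :=
    { toFun := fun w => rr (0, w.toAdd.1, w.toAdd.2)
      map_one' := rr_zero
      map_mul' := fun a b => rr_plane hK a.toAdd b.toAdd }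
  let ψ : AddChar (K × K) ℂ := e.compAddMonoidHom (AddMonoidHom.snd K K)
  obtain ⟨k, hk⟩ := Char.classInner_isCharacter_eq_natCast
    (Char.isCharacter_comp F (Char.IsIrr.isCharacter χ.2))
    (Char.isCharacter_hom ψ.toMonoidHom.toHomUnits)
  refine ⟨k, ?_⟩
  rw [classInner, Nat.card_eq_fintype_card, Fintype.card_multiplicative, Fintype.card_prod, hK] at hk
  have hval : ∀ w : Multiplicative (K × K),
      (ψ.toMonoidHom.toHomUnits w : ℂ) = e w.toAdd.2 := fun w => rfl
  simp only [hval] at hk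
  have hsum : ∑ u : K, ∑ v : K, (χ : G1 K m → ℂ) (rr (0, u, v)) * conj (e v) =
      (((3 ^ (2 * m + 1)) ^ 2 : ℕ) : ℂ) * k := by
    rw [← Fintype.sum_prod_type', ← hk, Nat.pow_two, mul_inv_cancel_left₀ (Nat.cast_ne_zero.2 (by positivity))]
    exact Fintype.sum_equiv Multiplicative.ofAdd _ _ fun w => rfl
  have hconj : ∀ v : K, conj (e v) = e (-v) := fun v => (AddChar.map_neg_eq_conj e v).symm
  simp only [hconj] at hsum
  have hzero : ∑ v : K, e (-v) = 0 := by
    rw [← AddChar.sum_eq_zero_iff_ne_zero.2 he0]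
    exact Fintype.sum_equiv (Equiv.neg K) _ _ fun v => rfl
  have hrow : ∀ u : K, u ≠ 0 → ∑ v : K, (χ : G1 K m → ℂ) (rr (0, u, v)) * e (-v) = 0 := by
    intro u hu
    have hc : ∀ v : K, (χ : G1 K m → ℂ) (rr (0, u, v)) = (χ : G1 K m → ℂ) (rr (0, u, 0)) := by
      intro v
      rw [← Char.isClassFunction_of_isIrr χ.2 (rr (0, u, 0) : G1 K m) (rr (v / u, 0, 0)),
        rr_plane_conj hK, div_mul_cancel₀ _ hu, zero_add]
    simp only [hc, ← Finset.mul_sum, hzero, mul_zero]
  rw [Finset.sum_eq_single (0 : K) (fun u _ hu => hrow u hu) (fun h => absurd (Finset.mem_univ _) h),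
    ← Finset.add_sum_erase _ _ (Finset.mem_univ (0 : K))] at hsum
  have hc : ∀ v ∈ (Finset.univ : Finset K).erase 0,
      (χ : G1 K m → ℂ) (rr (0, 0, v)) * e (-v) = (χ : G1 K m → ℂ) (rr (0, 0, 1)) * e (-v) := by
    intro v hv
    have h := Char.isClassFunction_of_isIrr χ.2 (rr (0, 0, 1) : G1 K m)
      (tt hK (Units.mk0 v (Finset.ne_of_mem_erase hv)))
    simp only [tt_conj_rr hK, mul_zero, mul_one, Units.val_mk0] at h
    rw [h]
  rw [Finset.sum_congr rfl hc, ← Finset.mul_sum, rr_zero, (CharArith.irr_degree_spec χ).1,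
    neg_zero, AddChar.map_zero_eq_one, mul_one] at hsum
  rw [← Finset.add_sum_erase _ _ (Finset.mem_univ (0 : K)), neg_zero, AddChar.map_zero_eq_one] at hzero
  rw [eq_neg_of_add_eq_zero_right hzero] at hsum
  linear_combination -hsum

/-- A central unipotent element: the value is small. -/
theorem filter_central [Fintype (G1 K m)] {A : Subgroup (G1 K m)} {r : ℕ} (hA : Sing6 A r)
    (h3 : ¬ 3 ∣ Nat.card A) {χ : IrrCharacter (G1 K m)} (hχ : Exc A χ) :
    ∃ n : ℕ, ((charDegree (χ : G1 K m → ℂ) : ℤ) - ((3 ^ (2 * m + 1)) ^ 2 * n : ℕ)) ^ 2 * (Nat.card A : ℤ) ≤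
      6 * (((3 ^ (2 * m + 1)) ^ 3 : ℕ) : ℤ) := by
  classical
  obtain ⟨n, hn⟩ := congr_central hK χ
  refine ⟨n, ?_⟩
  set z : G1 K m := rr (0, 0, 1)
  have h := hA.slack hχ {z} (Subgroup.centralizer {z})
    (fun g d hd hd' => by
      rw [Finset.mem_singleton.1 hd, Finset.mem_singleton] at hd'
      exact Subgroup.mem_centralizer_singleton_iff.2 (mul_inv_eq_iff_eq_mul.1 hd'))
    (fun g d hd hd' => by
      have h1 := Subgroup.orderOf_dvd_natCard _ (mem_sharp.1 hd).1
      rw [← orderOf_conj_eq g, Finset.mem_singleton.1 hd',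
        show orderOf z = 3 from by
          haveI : Fact (Nat.Prime 3) := ⟨Nat.prime_three⟩
          exact orderOf_eq_prime ((rr_cube_eq_one hK).2 rfl) fun e =>
            one_ne_zero (congrArg (fun z : K × K × K => z.2.2) (rr_eq_one e))] at h1
      exact h3 h1)
  have hz : ‖(χ : G1 K m → ℂ) z‖ ^ 2 =
      ((((charDegree (χ : G1 K m → ℂ) : ℤ) - ((3 ^ (2 * m + 1)) ^ 2 * n : ℕ)) ^ 2 : ℤ) : ℝ) := by
    rw [hn]
    rw [show ((charDegree (χ : G1 K m → ℂ) : ℂ) - (((3 ^ (2 * m + 1)) ^ 2 : ℕ) : ℂ) * n) =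
      (((charDegree (χ : G1 K m → ℂ) : ℤ) - ((3 ^ (2 * m + 1)) ^ 2 * n : ℕ) : ℤ) : ℂ) by push_cast; ring,
      Complex.norm_intCast, sq_abs, Int.cast_pow]
  rw [Finset.sum_singleton, hz] at h
  have hC := centralizer_central hK (one_ne_zero (α := K)) (m := m)
  have h' := h.trans (mul_le_mul_of_nonneg_left (Nat.cast_le.2 hC) (by norm_num : (0 : ℝ) ≤ 6))
  rw [mul_comm] at h'
  exact_mod_cast h'

end Cfsg.Agent.ReeSquare
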