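import Cfsg.Agent.ReeSquare.Criterion
import Cfsg.Agent.ReeSquare.Unip
import Cfsg.Agent.S2455

/-!
What is covered inside the centraliser of an involution and inside the stabiliser of a point.
-/

set_option autoImplicit false
set_option maxRecDepth 100000
set_option maxHeartbeats 1000000

namespace Cfsg.Agent.ReeSquare

open Cfsg.Lie Cfsg.Agent.Chev Cfsg.Agent.Chev.Ree

universe u

variable {K : Type u} [Field K] [Fintype K] [CharP K 3] {m : ℕ}
  (hK : Fintype.card K = 3 ^ (2 * m + 1))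

local notation "PG" => Matrix.ProjectiveSpecialLinearGroup (Fin 2) K

omit [CharP K 3] [Fintype K] in
theorem exists_involution_pg : ∃ y : PG, y ≠ 1 ∧ y * y = 1 := by
  let g : Matrix.SpecialLinearGroup (Fin 2) K := ⟨!![0, 1; -1, 0], by simp [Matrix.det_fin_two]⟩
  refine ⟨SL2Class.proj g, fun e => ?_, ?_⟩
  · have h := SL2Class.proj_eq_one.1 e
    rcases SL2Class.mem_center_cases.1 h with h | h <;>
      have := congrArg (fun z : Matrix.SpecialLinearGroup (Fin 2) K => z.1 0 1) h <;>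
      simp [g] at this
  · rw [← map_mul, SL2Class.proj_eq_one]
    have e : g * g = -1 := Subtype.ext (by
      ext i j
      rw [Matrix.SpecialLinearGroup.coe_mul, SL2Class.coe_neg_one]
      fin_cases i <;> fin_cases j <;> simp [g, SL2Class.lin_apply, Matrix.mul_apply, Fin.sum_univ_two])
    rw [e]
    exact SL2Class.neg_one_mem_center

theorem psl_real (x : PG) (hx2 : 2 < orderOf x) (hx3 : ¬ 3 ∣ orderOf x) :
    ∃ c : PG, c * x * c⁻¹ = x⁻¹ := by
  haveI : Fact (Nat.Prime 3) := ⟨Nat.prime_three⟩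
  obtain ⟨x, rfl⟩ := SL2Class.proj_surjective x
  have ht4 : SL2Class.tr x * SL2Class.tr x ≠ 4 := by
    intro e
    have hd : orderOf (SL2Class.proj x) ∣ 3 :=
      SL2Class.orderOf_proj_dvd_iff.2 (SL2Class.pow_tr_eq_four e 3)
    rcases (Nat.dvd_prime Nat.prime_three).1 hd with e1 | e1
    · omega
    · exact hx3 (e1 ▸ dvd_rfl)
  obtain ⟨k, hk⟩ := isConj_iff.1 (SL2Class.isConj_of_tr (SL2Class.nonScalar_of_sq_ne ht4)
    (SL2Class.nonScalar_inv (SL2Class.nonScalar_of_sq_ne ht4)) (SL2Class.tr_inv x).symm (Or.inl ht4))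
  exact ⟨SL2Class.proj k, by rw [← map_inv, ← map_inv, ← map_mul, ← map_mul, hk]⟩

include hK

/-- What an element of the centraliser of an involution covers. -/
theorem covers_centralizer (hm : 1 ≤ m) {x : G1 K m}
    (hx : x ∈ Subgroup.centralizer {(invJ : G1 K m)}) (hx2 : 2 < orderOf x)
    (hx3 : ¬ 3 ∣ orderOf x) :
    Covers x invJ ∧ (∀ u : K, u ≠ 0 → Covers x (rr (0, u, 0))) ∧ IsConj x x⁻¹ := by
  classical
  obtain ⟨ψ, hψi, hψc, hψne, hψs⟩ := exists_psiP hK (m := m) (K := K)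
  obtain ⟨h, hh⟩ := hψs x hx
  have hJJ : (invJ : G1 K m) * invJ = 1 := invJ_sq
  -- powers
  have hpow : ∀ n : ℕ, x ^ (2 * n) = ψ (h ^ (2 * n)) := by
    intro n
    rcases hh with rfl | rfl
    · rw [map_pow]
    · rw [(hψc h).mul_pow, pow_mul invJ, pow_two, hJJ, one_pow, one_mul, map_pow]
  have ho : 2 < orderOf h := by
    by_contra hle
    have h2 : h ^ (2 * 1) = 1 := by
      rcases Nat.lt_or_ge (orderOf h) 2 with h1 | h1
      · have := orderOf_pos h
        rw [orderOf_eq_one_iff.1 (by omega : orderOf h = 1), one_pow]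
      · exact orderOf_dvd_iff_pow_eq_one.1 (dvd_of_eq (by omega))
    have := hpow 1
    rw [h2, map_one] at this
    have := Nat.le_of_dvd two_pos (orderOf_dvd_of_pow_eq_one this)
    omega
  have ho3 : ¬ 3 ∣ orderOf h := by
    intro h3
    have e : ψ (h ^ (2 * orderOf x)) = 1 := by
      rw [← hpow, mul_comm, pow_mul, pow_orderOf_eq_one, one_pow]
    have hd := h3.trans (orderOf_dvd_of_pow_eq_one (hψi (e.trans (map_one ψ).symm)))
    exact hx3 ((by decide : Nat.Coprime 3 2).dvd_of_dvd_mul_left hd)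
  have h5 : 5 ≤ Fintype.card K := by
    rw [hK]
    have := le_pow_odd hm
    omega
  have hcov : ∀ y : PG, y ≠ 1 → Covers x (ψ y) := by
    intro y hy
    obtain ⟨u, v, e⟩ := @S2455.result K _ _ 3 ⟨Nat.prime_three⟩ _ (by norm_num) h5 h ho ho3 y hy
    refine ⟨ψ u, ψ v, ?_⟩
    rw [e]
    simp only [map_mul, map_inv]
    rcases hh with rfl | rfl
    · rfl
    · have hc : ∀ w, ψ w * (invJ * ψ h) * (ψ w)⁻¹ = invJ * (ψ w * ψ h * (ψ w)⁻¹) := fun w => by
        rw [← mul_assoc, ← (hψc w).eq]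
        group
      rw [hc, hc]
      have hcJ : Commute invJ (ψ u * ψ h * (ψ u)⁻¹) :=
        ((hψc u).mul_right (hψc h)).mul_right (hψc u).inv_right
      rw [← mul_assoc (invJ * _), mul_assoc invJ _ invJ, ← hcJ.eq, ← mul_assoc invJ invJ, hJJ, one_mul]
  refine ⟨?_, fun u hu => ?_, ?_⟩
  · obtain ⟨y, hy1, hy2⟩ := exists_involution_pg (K := K)
    obtain ⟨a, ha⟩ := involutions_conj hK hm (i := ψ y) (by rw [← map_mul, hy2, map_one])
      (fun e => hy1 (hψi (e.trans (map_one ψ).symm)))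
    exact Covers.of_conj_right a (ha.symm ▸ hcov y hy1)
  · have hmem : (rr (0, u, 0) : G1 K m) ∈ Subgroup.centralizer {(invJ : G1 K m)} := by
      rw [Subgroup.mem_centralizer_singleton_iff]
      refine (mul_inv_eq_iff_eq_mul.1 ?_).symm
      rw [invJ_conj_rr hK, neg_zero]
    have hne : (rr (0, u, 0) : G1 K m) ≠ 1 := fun e =>
      hu (congrArg (fun z : K × K × K => z.2.1) (rr_eq_one e))
    obtain ⟨y, hy | hy⟩ := hψs _ hmem
    · rw [hy]
      exact hcov y fun e => hne (by rw [hy, e, map_one])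
    · exfalso
      have h3 := (rr_cube_eq_one hK (p := (0, u, 0)) (m := m)).2 rfl
      rw [hy, (hψc y).mul_pow, ← map_pow, pow_succ invJ 2, pow_two, hJJ, one_mul] at h3
      exact hψne _ ((eq_inv_of_mul_eq_one_right h3).trans (inv_eq_of_mul_eq_one_right hJJ))
  · obtain ⟨c, hc⟩ := psl_real h ho ho3
    refine isConj_iff.2 ⟨ψ c, ?_⟩
    rcases hh with rfl | rfl
    · rw [← map_inv, ← map_inv, ← map_mul, ← map_mul, hc]
    · rw [← mul_assoc, ← (hψc c).eq, mul_assoc, mul_assoc, mul_inv_rev,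
        inv_eq_of_mul_eq_one_right hJJ, ← map_inv, ← map_inv, ← map_mul, ← map_mul, ← mul_assoc, hc]
      exact (hψc _).eq

/-- An element of the split torus covers the unipotent elements. -/
theorem covers_unipotent {c : Kˣ} (hc : c ^ 2 ≠ 1) (p : K × K × K) :
    Covers (tt hK c : G1 K m) (rr p) := by
  obtain ⟨s, hs⟩ := (mem_U1 hK).1 (B1_conj_U1 hK (tt_mem_B1 hK c) (rr_mem_U1 hK p))
  obtain ⟨q, hq⟩ := exists_conj_tt hK hc s (m := m)
  refine ⟨nn, rr q, ?_⟩
  rw [hq, nn_conj_tt hK, map_inv, ← hs]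
  group

end Cfsg.Agent.ReeSquare
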