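import Cfsg.Agent.ReeSquare.Central
import Cfsg.Agent.ReeSquare.Degrees
import Cfsg.Agent.ReeSquare.Small

/-!
Every nontrivial element of `²G₂(q)` is a product of two conjugates of any element of order above
two and prime to three.
-/

set_option autoImplicit false
set_option maxRecDepth 100000
set_option maxHeartbeats 1000000

namespace Cfsg.Agent.ReeSquare

open Cfsg.Lie Cfsg.Agent.Chev Cfsg.Agent.Chev.Ree

universe u

variable {K : Type u} [Field K] [Fintype K] [CharP K 3] {m : ℕ}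
  (hK : Fintype.card K = 3 ^ (2 * m + 1))
include hK

/-- A torus with at most `q + 1` elements covers the elements with small centralisers. -/
theorem covers_small (hm : 1 ≤ m) {x g : G1 K m}
    (hx : Nat.card (Subgroup.centralizer ({x} : Set (G1 K m))) ≤ 3 ^ (2 * m + 1) + 1)
    (hg : Nat.card (Subgroup.centralizer ({g} : Set (G1 K m))) ≤ 3 * 3 ^ (2 * m + 1)) :
    Covers x g := by
  classical
  have h27 := le_pow_odd hm
  refine covers_of_crude (D₀ := (3 ^ (2 * m + 1)) ^ 2 - 3 ^ (2 * m + 1) + 1) (Nat.succ_pos _)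
    (deg_ge hK hm) hx hg ?_
  generalize 3 ^ (2 * m + 1) = q at h27 ⊢
  obtain ⟨k, rfl⟩ : ∃ k, q = k + 27 := ⟨q - 27, by omega⟩
  have e : (k + 27) ^ 2 - (k + 27) + 1 = k * k + 53 * k + 703 := by
    have : (k + 27) ^ 2 = k * k + 54 * k + 729 := by ring
    omega
  rw [e]
  ring_nf
  nlinarith [Nat.zero_le (k ^ 3), Nat.zero_le (k ^ 4), Nat.zero_le (k ^ 2)]

/-- The elements of the split torus. -/
theorem covers_split (hm : 1 ≤ m) {c : Kˣ} (hc : c ^ 2 ≠ 1)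
    (hx2 : 2 < orderOf (tt hK c : G1 K m)) (hx3 : ¬ 3 ∣ orderOf (tt hK c : G1 K m)) {g : G1 K m}
    (hg : g ≠ 1) : Covers (tt hK c) g := by
  have hC : tt hK c ∈ Subgroup.centralizer {(invJ : G1 K m)} := by
    rw [Subgroup.mem_centralizer_singleton_iff, ← tt_neg_one hK, ← map_mul, ← map_mul, mul_comm]
  obtain ⟨hJ, -, -⟩ := covers_centralizer hK hm hC hx2 hx3
  rcases elem_cases hK hm hg with h | ⟨a, e⟩ | ⟨a, u, -, e⟩ | ⟨a, v, -, e⟩
  · refine covers_small hK hm ?_ h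
    rw [centralizer_tt hK hc, card_H1_eq hK]
    omega
  · exact Covers.of_conj_right a (e ▸ hJ)
  · exact Covers.of_conj_right a (e ▸ covers_unipotent hK hc _)
  · exact Covers.of_conj_right a (e ▸ covers_unipotent hK hc _)

/-- The elements of a torus of order `q + 1`. -/
theorem covers_qtorus (hm : 1 ≤ m) {T : Subgroup (G1 K m)} {a : G1 K m}
    (hT : IsQTorus (3 ^ (2 * m + 1)) T a) (hJT : invJ ∈ T) {x : G1 K m} (hxT : x ∈ T)
    (hxsq : x ^ 2 ≠ 1) (hx2 : 2 < orderOf x) (hx3 : ¬ 3 ∣ orderOf x) {g : G1 K m} (hg : g ≠ 1) :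
    Covers x g := by
  obtain ⟨hJ, hU, hreal⟩ := covers_centralizer hK hm
    (Subgroup.mem_centralizer_singleton_iff.2 (hT.torus.comm x hxT _ hJT)) hx2 hx3
  rcases elem_cases hK hm hg with h | ⟨w, e⟩ | ⟨w, u, hu, e⟩ | ⟨w, v, hv, e⟩
  · refine covers_small hK hm ?_ h
    rw [hT.torus.cent x hxT hxsq, hT.card]
  · exact Covers.of_conj_right w (e ▸ hJ)
  · exact Covers.of_conj_right w (e ▸ hU u hu)
  · exact Covers.of_conj_right w (e ▸ covers_central hK hm hT hxT hxsq hreal hv)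

/-- The elements of the self-centralising tori. -/
theorem covers_singer [Fintype (G1 K m)] (hm : 1 ≤ m) {A B : Subgroup (G1 K m)} {Φ : ℕ}
    (hA : IsSinger Φ A) (hB : IsSinger Φ B)
    (hNA : Nat.card (Subgroup.normalizer (A : Set (G1 K m))) = 6 * Nat.card A)
    (hNB : Nat.card (Subgroup.normalizer (B : Set (G1 K m))) = 6 * Nat.card B)
    (hcards : Nat.card A = 3 ^ (2 * m + 1) - 3 ^ (m + 1) + 1 ∧
        Nat.card B = 3 ^ (2 * m + 1) + 3 ^ (m + 1) + 1 ∨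
      Nat.card A = 3 ^ (2 * m + 1) + 3 ^ (m + 1) + 1 ∧
        Nat.card B = 3 ^ (2 * m + 1) - 3 ^ (m + 1) + 1)
    {x : G1 K m} (hxA : x ∈ A) (hx1 : x ≠ 1) {g : G1 K m} (hg : g ≠ 1) : Covers x g := by
  classical
  have h27 := le_pow_odd hm
  have hrq := pow_succ_le m
  have hnn := nminus_mul_nplus m
  have hsq := sq_pow_succ m
  obtain ⟨a, ha⟩ : ∃ a, 3 ^ (2 * m + 1) = 3 * a := ⟨3 ^ (2 * m), by rw [pow_succ']⟩
  obtain ⟨b, hb⟩ : ∃ b, 3 ^ (m + 1) = 3 * b := ⟨3 ^ m, by rw [pow_succ']⟩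
  have hodd : 3 ^ (2 * m + 1) % 2 = 1 ∧ 3 ^ (m + 1) % 2 = 1 :=
    ⟨Nat.odd_iff.1 ((by decide : Odd 3).pow), Nat.odd_iff.1 ((by decide : Odd 3).pow)⟩
  set q := 3 ^ (2 * m + 1) with hq
  set θ := 3 ^ (m + 1) with hθ
  obtain ⟨r, hr⟩ : ∃ r, Nat.card A = 6 * r + 1 := ⟨Nat.card A / 6, by omega⟩
  have hbig : 2 ≤ m → 243 ≤ q := fun h =>
    (show 243 = 3 ^ 5 by norm_num) ▸ Nat.pow_le_pow_right (by norm_num) (by omega)
  have hθq : 2 ≤ m → 4 * θ ≤ q := fun h => by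
    have := hbig h
    nlinarith
  have hrange : r = 3 ∨ 5 ≤ r := by
    rcases Nat.lt_or_ge m 2 with h | h
    · have h1 : q = 27 := by rw [hq, show m = 1 by omega]; norm_num
      have h2 : θ = 9 := by rw [hθ, show m = 1 by omega]; norm_num
      omega
    · have := hbig h
      have := hθq h
      omega
  have hS : Sing6 A r := ⟨fun a ha b hb => comm_of_isCyclic hA.cyclic ha hb, hA.cent, hA.ti, hNA, hr,
    hrange⟩
  set D₀ := q ^ 2 - q + 1 with hD₀
  have hprod : Nat.card A * Nat.card B = D₀ := by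
    rcases hcards with ⟨h, h'⟩ | ⟨h, h'⟩ <;> rw [h, h'] <;> first | exact hnn | (rw [mul_comm]; exact hnn)
  -- the inequality
  suffices hDm : ∃ Dm : ℕ, 0 < Dm ∧
      (∀ χ : IrrCharacter (G1 K m), χ ≠ triv → Exc A χ → Dm ≤ charDegree (χ : G1 K m → ℂ)) ∧
      q ^ 3 * (17 * Dm ^ 2 + 49 * Nat.card A * D₀ ^ 2) < D₀ ^ 2 * Dm ^ 2 by
    obtain ⟨Dm, hpos, hexc, hineq⟩ := hDm
    refine covers_of_cauchy (centralizer_le_cube hK hm hg)
      (hS.fourth_le (D₀ := D₀) (mem_sharp.2 ⟨hxA, hx1⟩) (Nat.succ_pos _) hpos (deg_ge hK hm) hexc) ?_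
    rw [← hq]
    have hD0pos : (0 : ℝ) < D₀ := Nat.cast_pos.2 (Nat.succ_pos _)
    have hDmpos : (0 : ℝ) < Dm := Nat.cast_pos.2 hpos
    have h : ((q ^ 3 : ℕ) : ℝ) * (17 * (Dm : ℝ) ^ 2 + 49 * (Nat.card A : ℝ) * (D₀ : ℝ) ^ 2) <
        (D₀ : ℝ) ^ 2 * (Dm : ℝ) ^ 2 := by exact_mod_cast hineq
    rw [div_add_div _ _ (by positivity) (by positivity), div_mul_eq_mul_div, div_lt_one (by positivity)]
    linear_combination h
  rcases Nat.lt_or_ge m 2 with h | h
  · have h1 : m = 1 := by omega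
    have e1 : q = 27 := by rw [hq, h1]; norm_num
    have e2 : θ = 9 := by rw [hθ, h1]; norm_num
    have hAB : Nat.card A = 19 ∧ Nat.card B = 37 ∨ Nat.card A = 37 ∧ Nat.card B = 19 := by omega
    refine ⟨if Nat.card A = 19 then 7536 else 10516, by split_ifs <;> norm_num,
      fun χ hne hχ => exc_deg_small hK h1 hS hB hNB hAB hne hχ, ?_⟩
    rw [hD₀, e1]
    rcases hAB with ⟨e, -⟩ | ⟨e, -⟩ <;> rw [e] <;> norm_num
  · have h243 := hbig h
    have h4 := hθq h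
    refine ⟨q ^ 3 / 16, Nat.div_pos (le_trans (by norm_num) (Nat.pow_le_pow_left h243 3)) (by norm_num), fun χ _ hχ => ?_, ?_⟩
    · have hcop : Nat.Coprime (Nat.card A) (Nat.card B) := by
        refine Nat.coprime_of_dvd fun p hp hp1 hp2 => ?_
        have hsum : p ∣ 2 * (q + 1) := by
          have := dvd_add hp1 hp2
          rwa [show Nat.card A + Nat.card B = 2 * (q + 1) by omega] at this
        have hpf := prime_facts (q := q) (by omega) hp
        have hpΦ : p ∣ q ^ 2 - q + 1 := hp1.trans ⟨_, hprod.symm⟩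
        rcases hp.dvd_mul.1 hsum with h2 | h2
        · obtain rfl := (Nat.prime_dvd_prime_iff_eq hp Nat.prime_two).1 h2
          omega
        · obtain rfl := hpf.2.1 h2 hpΦ
          exact hpf.2.2.2.2.2 ⟨⟨a, ha⟩, hpΦ⟩
      have := exc_deg_large hK h hS hB hNB hprod (by omega) (by omega) hcop hχ
      rw [← hq] at this
      omega
    · have hM : Nat.card A ≤ 2 * q := by omega
      have hDm : 16 * (q ^ 3 / 16) + 15 ≥ q ^ 3 := by omega
      have hq3 : q ^ 3 ≥ 4000 := le_trans (by norm_num) (Nat.pow_le_pow_left h243 3)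
      have hD17 : q ^ 3 ≤ 17 * (q ^ 3 / 16) := by omega
      set Dm := q ^ 3 / 16
      have hD0 : q ^ 2 ≤ 2 * D₀ := by
        have h2q : 2 * q ≤ q ^ 2 := by nlinarith
        omega
      have i1 : 2 * (q ^ 3 * 17) < D₀ ^ 2 := by
        have : q ^ 2 * q ^ 2 ≤ 4 * D₀ ^ 2 := by nlinarith [Nat.mul_le_mul hD0 hD0]
        have : 243 * q ^ 3 ≤ q ^ 2 * q ^ 2 := by nlinarith [Nat.mul_le_mul_left (q ^ 3) h243]
        nlinarith
      have i2 : 2 * (q ^ 3 * (49 * Nat.card A)) < Dm ^ 2 := by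
        have h1 : q ^ 3 * q ^ 3 ≤ 289 * Dm ^ 2 := by nlinarith [Nat.mul_le_mul hD17 hD17]
        have h2 : 59049 * (q ^ 3 * q) ≤ q ^ 3 * q ^ 3 := by
          calc 59049 * (q ^ 3 * q) = q ^ 3 * (243 * 243 * q) := by ring
            _ ≤ q ^ 3 * (q * q * q) := Nat.mul_le_mul_left _ (Nat.mul_le_mul_right _ (Nat.mul_le_mul h243 h243))
            _ = q ^ 3 * q ^ 3 := by ring
        nlinarith [Nat.mul_le_mul_left (q ^ 3) hM]
      nlinarith [mul_lt_mul_of_pos_right i1 (show 0 < Dm ^ 2 by nlinarith),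
        mul_lt_mul_of_pos_right i2 (show 0 < D₀ ^ 2 by nlinarith)]

/-- The theorem. -/
theorem covers_all (hm : 1 ≤ m) {x : G1 K m} (hx2 : 2 < orderOf x) (hx3 : ¬ 3 ∣ orderOf x)
    {g : G1 K m} (hg : g ≠ 1) : Covers x g := by
  classical
  haveI : Fintype (G1 K m) := Fintype.ofFinite _
  obtain ⟨p, hp, hp2, hpx⟩ := exists_odd_prime hK hx2
  have hp3 : p ≠ 3 := fun e => hx3 (e ▸ hpx)
  obtain ⟨T, a, hT, hJT, hTconj⟩ := exists_qtorus hK hm (m := m) (K := K)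
  obtain ⟨A, B, hA, hB, hAc, hBc, hNA, hNB⟩ := exists_two_singers hK hm (m := m) (K := K)
  rcases exists_conj_torus hK hTconj hA hB hAc hBc hp hp2 hp3 hpx with
    ⟨w, c, hc, e⟩ | ⟨w, hw, hw2⟩ | ⟨w, hw, hw1⟩ | ⟨w, hw, hw1⟩ <;> refine Covers.of_conj w ?_
  · rw [← orderOf_conj_eq w, e] at hx2 hx3
    rw [e]
    exact covers_split hK hm hc hx2 hx3 hg
  · rw [← orderOf_conj_eq w] at hx2 hx3
    exact covers_qtorus hK hm hT hJT hw hw2 hx2 hx3 hg
  · exact covers_singer hK hm hA hB hNA hNB (Or.inl ⟨hAc, hBc⟩) hw hw1 hg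
  · exact covers_singer hK hm hB hA hNB hNA (Or.inr ⟨hBc, hAc⟩) hw hw1 hg

end Cfsg.Agent.ReeSquare
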