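import Cfsg.Agent.ReeSquare.Mult

/-!
The characters on a self-centralising subgroup with a normaliser of index six over it.
-/

set_option autoImplicit false
set_option maxHeartbeats 1000000

namespace Cfsg.Agent.ReeSquare

open scoped ComplexConjugate
open Finset

universe u

theorem int_mul_pred_ge {z : ℤ} (h0 : z ≠ 0) (h1 : z ≠ 1) : 2 ≤ z * z - z := by
  rcases lt_or_gt_of_ne h0 with h | h
  · nlinarith [mul_nonneg (neg_nonneg.2 h.le) (neg_nonneg.2 h.le)]
  · have h2 : 2 ≤ z := by omega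
    nlinarith [mul_le_mul h2 (show 1 ≤ z - 1 by omega) zero_le_one (by omega)]

/-- Integers in sixes with a small variance: all equal, or six of them differ by one from the rest. -/
theorem exceptional {ι : Type*} [DecidableEq ι] (J : Finset ι) (n : ι → ℤ) {r : ℕ}
    (hr : r = 3 ∨ 5 ≤ r) (hcard : J.card = 6 * r)
    (hdiv : ∀ v : ℤ, 6 ∣ (J.filter fun i => n i = v).card)
    (hvar : (J.card : ℤ) * ∑ i ∈ J, n i ^ 2 - (∑ i ∈ J, n i) ^ 2 < 36 * r + 6) :
    (∃ c, ∀ i ∈ J, n i = c) ∨ ∃ (c e : ℤ) (O : Finset ι), (e = 1 ∨ e = -1) ∧ O ⊆ J ∧ O.card = 6 ∧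
      ∀ i ∈ J, n i = c + if i ∈ O then e else 0 := by
  have hr0 : 0 < r := by omega
  set Sn := ∑ i ∈ J, n i with hSn
  set c := Sn / (6 * r : ℤ) with hc
  set d : ι → ℤ := fun i => n i - c with hd
  set S := ∑ i ∈ J, d i with hS
  have hcast : (J.card : ℤ) = 6 * r := by exact_mod_cast hcard
  have hSval : S = Sn - 6 * r * c := by
    simp only [hS, hd, Finset.sum_sub_distrib, Finset.sum_const, nsmul_eq_mul, hcast, ← hSn]
  have hS0 : 0 ≤ S ∧ S < 6 * r := by
    rw [hSval, hc, ← Int.emod_def]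
    exact ⟨Int.emod_nonneg _ (by omega), Int.emod_lt_of_pos _ (by omega)⟩
  have h6 : ∀ f : ℤ → ℤ, (6 : ℤ) ∣ ∑ i ∈ J, f (d i) := by
    intro f
    rw [← Finset.sum_fiberwise_of_maps_to (g := n) (t := J.image n)
      (fun i hi => Finset.mem_image_of_mem n hi)]
    refine Finset.dvd_sum fun v _ => ?_
    rw [Finset.sum_congr rfl (fun i hi => show f (d i) = f (v - c) by
      rw [← (Finset.mem_filter.1 hi).2]), Finset.sum_const, nsmul_eq_mul]
    exact Dvd.dvd.mul_right (by exact_mod_cast hdiv v) _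
  obtain ⟨s, hs⟩ := h6 id
  simp only [id_eq, ← hS] at hs
  obtain ⟨p, hp⟩ := h6 fun z => z * z - z
  have hQ : ∑ i ∈ J, d i * d i = 6 * p + 6 * s := by
    rw [← hs, ← hp, Finset.sum_sub_distrib, hS]
    ring
  have hn : ∑ i ∈ J, n i ^ 2 = ∑ i ∈ J, d i * d i + 2 * c * S + 6 * r * c ^ 2 := by
    rw [hS, Finset.mul_sum, ← Finset.sum_add_distrib,
      show (6 : ℤ) * r * c ^ 2 = ∑ _i ∈ J, c ^ 2 by rw [Finset.sum_const, nsmul_eq_mul, hcast],
      ← Finset.sum_add_distrib]
    exact Finset.sum_congr rfl fun i _ => by simp only [hd]; ring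
  have hkey : (r : ℤ) * (p + s) - s * s ≤ r := by
    rw [hn, hQ, hcast, show Sn = S + 6 * r * c by rw [hSval]; ring, hs] at hvar
    by_contra hlt
    have : (r : ℤ) + 1 ≤ r * (p + s) - s * s := by omega
    nlinarith
  have hp0 : 0 ≤ p := by
    have : 0 ≤ ∑ i ∈ J, (d i * d i - d i) := Finset.sum_nonneg fun i _ => by
      have := Int.le_self_sq (d i)
      nlinarith [this]
    omega
  have hs0 : 0 ≤ s ∧ s < r := by omega
  have h01 : ∀ i ∈ J, d i = 0 ∨ d i = 1 := by
    intro i hi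
    by_contra hne
    push Not at hne
    have hall : ∀ j ∈ J.filter (fun j => n j = n i), (2 : ℤ) ≤ d j * d j - d j := fun j hj => by
      have e : d j = d i := by simp only [hd, (Finset.mem_filter.1 hj).2]
      rw [e]
      exact int_mul_pred_ge hne.1 hne.2
    have hsum := Finset.card_nsmul_le_sum _ _ _ hall
    have hle : ∑ j ∈ J.filter (fun j => n j = n i), (d j * d j - d j) ≤ 6 * p := by
      rw [← hp]
      refine Finset.sum_le_sum_of_subset_of_nonneg (Finset.filter_subset _ _) fun j _ _ => ?_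
      have := Int.le_self_sq (d j)
      nlinarith [this]
    have hc6 : 6 ≤ (J.filter fun j => n j = n i).card :=
      Nat.le_of_dvd (Finset.card_pos.2 ⟨i, Finset.mem_filter.2 ⟨hi, rfl⟩⟩) (hdiv _)
    rw [nsmul_eq_mul] at hsum
    have hc6' : (6 : ℤ) ≤ ((J.filter fun j => n j = n i).card : ℤ) := by exact_mod_cast hc6
    have hp2 : 2 ≤ p := by omega
    nlinarith [mul_le_mul_of_nonneg_left hp2 (Int.natCast_nonneg r),
      mul_nonneg hs0.1 (show (0 : ℤ) ≤ r - s by omega)]
  have hp00 : p = 0 := by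
    have : ∑ i ∈ J, (d i * d i - d i) = 0 := Finset.sum_eq_zero fun i hi => by
      rcases h01 i hi with e | e <;> rw [e] <;> norm_num
    omega
  rw [hp00, zero_add] at hkey
  have hs01 : s = 0 ∨ s = 1 ∨ s = r - 1 := by
    rcases hr with rfl | hr5
    · omega
    · by_contra hne
      push Not at hne
      have h1 : 2 ≤ s := by omega
      have h2 : s + 2 ≤ r := by omega
      have h5 : (5 : ℤ) ≤ r := by exact_mod_cast hr5
      nlinarith [mul_nonneg (show (0 : ℤ) ≤ s - 2 by omega) (show (0 : ℤ) ≤ r - 2 - s by omega)]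
  have hcount : S = ((J.filter fun i => d i = 1).card : ℤ) := by
    rw [hS, Finset.natCast_card_filter]
    exact Finset.sum_congr rfl fun i hi => by rcases h01 i hi with e | e <;> simp [e]
  rcases hs01 with h | h | h
  · refine Or.inl ⟨c, fun i hi => ?_⟩
    rcases h01 i hi with e | e
    · simp only [hd] at e; omega
    · have : 0 < (J.filter fun i => d i = 1).card := Finset.card_pos.2 ⟨i, Finset.mem_filter.2 ⟨hi, e⟩⟩
      omega
  · refine Or.inr ⟨c, 1, J.filter fun i => d i = 1, Or.inl rfl, Finset.filter_subset _ _, by omega,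
      fun i hi => ?_⟩
    rcases h01 i hi with e | e <;> simp only [Finset.mem_filter, hi, true_and, e] <;>
      simp only [hd] at e <;> norm_num <;> omega
  · refine Or.inr ⟨c + 1, -1, J.filter fun i => ¬ d i = 1, Or.inr rfl, Finset.filter_subset _ _, ?_,
      fun i hi => ?_⟩
    · have := Finset.card_filter_add_card_filter_not (s := J) (fun i => d i = 1)
      omega
    · rcases h01 i hi with e | e <;> simp only [Finset.mem_filter, hi, true_and, e] <;>
        simp only [hd] at e <;> norm_num <;> omega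

variable {G : Type u} [Group G] [Fintype G]

/-- A self-centralising abelian subgroup of order `6r + 1` with a normaliser of index six over it,
two conjugates of it having only one in common. -/
structure Sing6 (A : Subgroup G) (r : ℕ) : Prop where
  comm : ∀ a ∈ A, ∀ b ∈ A, a * b = b * a
  cent : ∀ y ∈ A, y ≠ 1 → Subgroup.centralizer {y} = A
  ti : ∀ g, ∀ y ∈ A, y ≠ 1 → g * y * g⁻¹ ∈ A → g ∈ Subgroup.normalizer (A : Set G)
  norm : Nat.card (Subgroup.normalizer (A : Set G)) = 6 * Nat.card A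
  card : Nat.card A = 6 * r + 1
  range : r = 3 ∨ 5 ≤ r

variable {A : Subgroup G} {r : ℕ}

theorem Sing6.self_cent (hA : Sing6 A r) {y : G} (hy : y ∈ sharp A) :
    Nat.card (Subgroup.centralizer ({y} : Set G)) = Nat.card A := by
  rw [hA.cent y (mem_sharp.1 hy).1 (mem_sharp.1 hy).2]

/-- The properties of a character which is not constant away from one. -/
def Exc (A : Subgroup G) (χ : IrrCharacter G) : Prop :=
  (∀ y ∈ sharp A, ‖(χ : G → ℂ) y‖ ≤ 7) ∧
  (∃ f e : ℤ, (f = -1 ∨ f = 0 ∨ f = 1) ∧ (e = -1 ∨ e = 1) ∧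
    (Nat.card A : ℤ) ∣ (charDegree (χ : G → ℂ) : ℤ) - (f + 6 * e)) ∧
  6 * (Nat.card A : ℝ) - 36 ≤ ∑ y ∈ sharp A, ‖(χ : G → ℂ) y‖ ^ 2

theorem Sing6.sum_sharp_lt (hA : Sing6 A r) (χ : IrrCharacter G) :
    ∑ y ∈ sharp A, ‖(χ : G → ℂ) y‖ ^ 2 < 6 * (Nat.card A : ℝ) := by
  classical
  have h := mass_pair (sharp A) {1} (Subgroup.normalizer (A : Set G)) ⊤
    (fun g d hd hd' => hA.ti g d (mem_sharp.1 hd).1 (mem_sharp.1 hd).2 (mem_sharp.1 hd').1)
    (fun g _ _ _ => Subgroup.mem_top g)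
    (fun g d hd e => (mem_sharp.1 hd).2 (conj_eq_one_iff.1 (Finset.mem_singleton.1 e)))
    (F := fun w => ‖(χ : G → ℂ) w‖ ^ 2) (fun w => sq_nonneg _) (norm_conj_eq χ)
  rw [Finset.sum_singleton, norm_one_eq, sum_normSq_irr, Subgroup.card_top, hA.norm] at h
  have hD : (1 : ℝ) ≤ (charDegree (χ : G → ℂ) : ℝ) ^ 2 := by
    exact_mod_cast Nat.one_le_pow _ _ (CharArith.irr_degree_spec χ).2
  have hM : (0 : ℝ) < Nat.card A := Nat.cast_pos.2 Nat.card_pos
  have hG : (0 : ℝ) < Nat.card G := Nat.cast_pos.2 Nat.card_pos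
  push_cast at h
  by_contra hge
  push Not at hge
  nlinarith [mul_le_mul_of_nonneg_left hge (mul_nonneg hG.le hG.le),
    mul_le_mul_of_nonneg_left hD (mul_nonneg hG.le hM.le)]

/-- The linear characters of `A` seen through a conjugation of `A`. -/
theorem Sing6.exists_twist (hA : Sing6 A r) {g : G} (hg : g ∈ Subgroup.normalizer (A : Set G)) :
    ∃ φ : A ≃* A, ∀ y : A, ((φ y : A) : G) = g * y * g⁻¹ := by
  refine ⟨{ toFun := fun y => ⟨g * y * g⁻¹, (Subgroup.mem_normalizer_iff.1 hg _).1 y.2⟩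
            invFun := fun y => ⟨g⁻¹ * y * g, by
              have := (Subgroup.mem_normalizer_iff.1 (inv_mem hg) (y : G)).1 y.2
              simpa using this⟩
            left_inv := fun y => Subtype.ext (by
              show g⁻¹ * (g * y * g⁻¹) * g = y
              group)
            right_inv := fun y => Subtype.ext (by
              show g * (g⁻¹ * y * g) * g⁻¹ = y
              group)
            map_mul' := fun a b => Subtype.ext (by
              show g * (a * b : G) * g⁻¹ = g * a * g⁻¹ * (g * b * g⁻¹)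
              group) }, fun y => rfl⟩

theorem Sing6.char_cases (hA : Sing6 A r) (χ : IrrCharacter G) :
    (∃ z : ℤ, ∀ y ∈ sharp A, (χ : G → ℂ) y = z) ∨ Exc A χ := by
  classical
  haveI : Fintype A := Fintype.ofFinite _
  have hc : ∀ a b : A, a * b = b * a := fun a b => Subtype.ext (hA.comm a a.2 b b.2)
  set M := Nat.card A with hM
  obtain ⟨n, hn, hexp, h1, h2⟩ := exists_mult hc
    (Char.isCharacter_res A (Char.IsIrr.isCharacter χ.2))
  simp only [OneMemClass.coe_one] at h1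
  set D := charDegree (χ : G → ℂ) with hD
  have hDn : D = ∑ θ, n θ := by
    rw [(CharArith.irr_degree_spec χ).1] at h1
    exact_mod_cast h1
  choose! φ hφ using fun g (hg : g ∈ Subgroup.normalizer (A : Set G)) => hA.exists_twist hg
  set N := Subgroup.normalizer (A : Set G) with hN
  let act : N → IrrCharacter A → IrrCharacter A := fun g θ =>
    ⟨fun y => (θ : A → ℂ) (φ g.1 y), (Char.isIrrCharacter_comp_equiv (φ g.1)).2 θ.2⟩
  have hact : ∀ (g : N) (θ : IrrCharacter A) (y : A), (act g θ : A → ℂ) y = (θ : A → ℂ) (φ g.1 y) :=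
    fun g θ y => rfl
  have hφmul : ∀ (g h : N) (y : A), φ g.1 (φ h.1 y) = φ (g.1 * h.1) y := fun g h y => Subtype.ext (by
    rw [hφ _ g.2, hφ _ h.2, hφ _ (mul_mem g.2 h.2)]
    group)
  have hφone : ∀ y : A, φ 1 y = y := fun y => Subtype.ext (by rw [hφ _ (one_mem N)]; group)
  have hmul : ∀ (g h : N) (θ : IrrCharacter A), act g (act h θ) = act (h * g) θ := fun g h θ =>
    Subtype.ext (funext fun y => by
      rw [hact, hact, hact, hφmul]
      rfl)
  have hone : ∀ θ : IrrCharacter A, act 1 θ = θ := fun θ =>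
    Subtype.ext (funext fun y => by
      rw [hact, show ((1 : N) : G) = 1 from rfl, hφone])
  have hinv : ∀ (g : N) (θ : IrrCharacter A), n (act g θ) = n θ := by
    intro g θ
    have h : (n (act g θ) : ℂ) = n θ := by
      rw [← hn, ← hn, classInner, classInner]
      congr 1
      refine Fintype.sum_equiv (φ g.1).toEquiv _ _ fun y => ?_
      rw [hact, MulEquiv.toEquiv_eq_coe, EquivLike.coe_coe]
      congr 1
      rw [hφ _ g.2]
      exact (Char.isClassFunction_of_isIrr χ.2 (y : G) g.1).symm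
    exact_mod_cast h
  have hne : ∀ (g : N) (θ : IrrCharacter A), θ ≠ triv → act g θ ≠ triv := by
    intro g θ hθ e
    refine hθ ?_
    rw [← hone θ, ← mul_inv_cancel g, ← hmul g⁻¹ g θ, e]
    exact Subtype.ext (funext fun y => rfl)
  -- the action is free
  have hfree : ∀ θ : IrrCharacter A, θ ≠ triv → ∀ g : N, act g θ = θ → g.1 ∈ A := by
    intro θ hθ g e
    by_contra hgA
    refine hθ ?_
    let ψ : A → A := fun y => φ g.1 y * y⁻¹
    have hψ : Function.Injective ψ := by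
      intro a b hab
      by_contra hne'
      have hab' : φ g.1 (b⁻¹ * a) = b⁻¹ * a := by
        have h' : φ g.1 a * a⁻¹ = φ g.1 b * b⁻¹ := hab
        rw [map_mul, map_inv]
        calc (φ g.1 b)⁻¹ * φ g.1 a = (φ g.1 b)⁻¹ * (φ g.1 a * a⁻¹) * a := by group
          _ = b⁻¹ * a := by rw [h']; group
      have hne1 : ((b⁻¹ * a : A) : G) ≠ 1 := fun e1 =>
        hne' (inv_mul_eq_one.1 (Subtype.ext e1)).symm
      have hcom := congrArg Subtype.val hab'
      rw [hφ _ g.2] at hcom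
      exact hgA (hA.cent _ (b⁻¹ * a).2 hne1 ▸ Subgroup.mem_centralizer_singleton_iff.2
        (mul_inv_eq_iff_eq_mul.1 hcom))
    refine Subtype.ext (funext fun w => ?_)
    obtain ⟨y, rfl⟩ := Finite.injective_iff_surjective.1 hψ w
    show (θ : A → ℂ) (φ g.1 y * y⁻¹) = 1
    rw [irr_mul_of_comm hc, ← hact, e, ← irr_mul_of_comm hc, mul_inv_cancel, irr_one_of_comm hc]
  let O : IrrCharacter A → Finset (IrrCharacter A) := fun θ => univ.image fun g : N => act g θ
  have hOcard : ∀ θ : IrrCharacter A, θ ≠ triv → (O θ).card = 6 := by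
    intro θ hθ
    have hfib : ∀ η ∈ O θ, (univ.filter fun g : N => act g θ = η).card = M := by
      intro η hη
      obtain ⟨g₀, -, rfl⟩ := Finset.mem_image.1 hη
      rw [hM, Nat.card_eq_fintype_card, ← Fintype.card_subtype]
      have hA0 : ∀ a : A, act ⟨a.1, Subgroup.le_normalizer a.2⟩ θ = θ := fun a =>
        Subtype.ext (funext fun y : A => by
          rw [hact]
          refine congrArg (θ : A → ℂ) (Subtype.ext ?_)
          rw [hφ _ (Subgroup.le_normalizer a.2), hA.comm _ a.2 _ y.2, mul_inv_cancel_right])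
      exact Fintype.card_congr
        { toFun := fun g => ⟨(g.1 * g₀⁻¹ : N).1,
            hfree θ hθ _ (by rw [← hmul, g.2, hmul, mul_inv_cancel, hone])⟩
          invFun := fun a => ⟨⟨a.1, Subgroup.le_normalizer a.2⟩ * g₀, by rw [← hmul, hA0]⟩
          left_inv := fun g => Subtype.ext (Subtype.ext (by simp))
          right_inv := fun a => Subtype.ext (by simp) }
    have h := Finset.card_eq_sum_card_fiberwise (s := (univ : Finset N)) (t := O θ)
      (f := fun g => act g θ) (fun g _ => Finset.mem_image_of_mem _ (Finset.mem_univ g))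
    rw [Finset.sum_congr rfl hfib, Finset.sum_const, smul_eq_mul, Finset.card_univ,
      ← Nat.card_eq_fintype_card, hA.norm] at h
    exact (Nat.eq_of_mul_eq_mul_right Nat.card_pos h).symm
  set J := (univ : Finset (IrrCharacter A)).erase triv with hJ
  have hJcard : J.card = 6 * r := by
    rw [hJ, Finset.card_erase_of_mem (Finset.mem_univ _), Finset.card_univ, card_irr_of_comm hc,
      hA.card]
    rfl
  have hdiv : ∀ v : ℤ, 6 ∣ (J.filter fun θ => (n θ : ℤ) = v).card := by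
    intro v
    rw [Finset.card_eq_sum_card_fiberwise (f := O) (t := (J.filter fun θ => (n θ : ℤ) = v).image O)
      (fun θ hθ => Finset.mem_image_of_mem _ hθ)]
    refine Finset.dvd_sum fun Q hQ => ?_
    obtain ⟨θ, hθ, rfl⟩ := Finset.mem_image.1 hQ
    simp only [hJ, Finset.mem_filter, Finset.mem_erase, Finset.mem_univ, and_true] at hθ
    refine dvd_of_eq (hOcard θ hθ.1).symm |>.trans (dvd_of_eq (congrArg Finset.card ?_))
    ext η
    simp only [hJ, Finset.mem_filter, Finset.mem_erase, Finset.mem_univ, and_true]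
    constructor
    · intro hη
      obtain ⟨g, -, rfl⟩ := Finset.mem_image.1 hη
      refine ⟨⟨hne g θ hθ.1, by rw [hinv]; exact hθ.2⟩, ?_⟩
      ext ξ
      simp only [O, Finset.mem_image, Finset.mem_univ, true_and, hmul]
      exact ⟨fun ⟨h, e⟩ => ⟨g * h, e⟩, fun ⟨h, e⟩ => ⟨g⁻¹ * h, by rwa [mul_inv_cancel_left]⟩⟩
    · rintro ⟨-, e⟩
      rw [← e]
      exact Finset.mem_image.2 ⟨1, Finset.mem_univ _, hone η⟩
  -- the variance
  set n₀ := (n triv : ℤ) with hn₀
  have hsum : ∀ F : IrrCharacter A → ℤ, ∑ θ, F θ = F triv + ∑ θ ∈ J, F θ := fun F =>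
    (Finset.add_sum_erase _ _ (Finset.mem_univ _)).symm
  set V : ℤ := (M : ℤ) * ∑ θ, (n θ : ℤ) ^ 2 - (∑ θ, (n θ : ℤ)) ^ 2 with hV
  have hVA : (V : ℝ) = ∑ y ∈ sharp A, ‖(χ : G → ℂ) y‖ ^ 2 := by
    rw [sum_sharp A, h2, norm_one_eq, ← hD, hDn, hV]
    push_cast
    ring
  have hVlt : V < 6 * (M : ℤ) := by
    have h := hA.sum_sharp_lt χ
    rw [← hVA] at h
    exact_mod_cast h
  have hvar : (J.card : ℤ) * ∑ θ ∈ J, (n θ : ℤ) ^ 2 - (∑ θ ∈ J, (n θ : ℤ)) ^ 2 < 36 * r + 6 := by
    have h0 : (0 : ℤ) ≤ ∑ θ ∈ J, ((n θ : ℤ) - n₀) ^ 2 := Finset.sum_nonneg fun θ _ => sq_nonneg _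
    simp only [sub_sq, Finset.sum_add_distrib, Finset.sum_sub_distrib, Finset.sum_const,
      nsmul_eq_mul, ← Finset.mul_sum, ← Finset.sum_mul] at h0
    rw [hV, hsum, hsum, hM, hA.card] at hVlt
    rw [hJcard] at h0 ⊢
    push_cast at hVlt h0 ⊢
    rw [← hn₀] at hVlt
    nlinarith
  have hsum0 : ∀ y : A, y ≠ 1 → ∀ c : ℤ, (χ : G → ℂ) (y : G) =
      ((n₀ - c : ℤ) : ℂ) + ∑ θ ∈ J, (((n θ : ℤ) - c : ℤ) : ℂ) * (θ : A → ℂ) y := by
    intro y hy c
    rw [hexp y]
    have h0 := sum_irr_apply hc hy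
    calc ∑ θ, (n θ : ℂ) * (θ : A → ℂ) y
        = ∑ θ, (((n θ : ℤ) - c : ℤ) : ℂ) * (θ : A → ℂ) y := by
          push_cast
          simp only [sub_mul, Finset.sum_sub_distrib, ← Finset.mul_sum, h0, mul_zero, sub_zero]
      _ = _ := by
          rw [← Finset.add_sum_erase _ _ (Finset.mem_univ (triv : IrrCharacter A)), triv_apply,
            mul_one, hn₀]
  have hshift : ∀ c : ℤ, V = (M : ℤ) * ∑ θ, ((n θ : ℤ) - c) ^ 2 - (∑ θ, ((n θ : ℤ) - c)) ^ 2 := by
    intro c
    simp only [hV, sub_sq, Finset.sum_add_distrib, Finset.sum_sub_distrib, Finset.sum_const,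
      nsmul_eq_mul, ← Finset.mul_sum, ← Finset.sum_mul, Finset.card_univ, card_irr_of_comm hc, ← hM]
    ring
  rcases exceptional J (fun θ => (n θ : ℤ)) hA.range hJcard hdiv hvar with ⟨c, hc'⟩ |
    ⟨c, e, P, he, hPJ, hPc, hc'⟩
  · refine Or.inl ⟨n₀ - c, fun y hy => ?_⟩
    have hy' := mem_sharp.1 hy
    rw [hsum0 ⟨y, hy'.1⟩ (fun e => hy'.2 (congrArg Subtype.val e)) c]
    rw [Finset.sum_eq_zero fun θ hθ => by rw [hc' θ hθ, sub_self, Int.cast_zero, zero_mul], add_zero]
  · set f := n₀ - c with hf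
    have hd : ∀ θ ∈ J, (n θ : ℤ) - c = if θ ∈ P then e else 0 := fun θ hθ => by rw [hc' θ hθ]; ring
    have hS1 : ∑ θ, ((n θ : ℤ) - c) = f + 6 * e := by
      rw [hsum, Finset.sum_congr rfl hd, Finset.sum_ite_mem, Finset.inter_eq_right.2 hPJ,
        Finset.sum_const, hPc, nsmul_eq_mul]
      rfl
    have hS2 : ∑ θ, ((n θ : ℤ) - c) ^ 2 = f ^ 2 + 6 := by
      rw [hsum, Finset.sum_congr rfl (g := fun θ => if θ ∈ P then (1 : ℤ) else 0)
        (fun θ hθ => by rw [hd θ hθ]; rcases he with rfl | rfl <;> split_ifs <;> norm_num),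
        Finset.sum_ite_mem, Finset.inter_eq_right.2 hPJ, Finset.sum_const, hPc]
      norm_num [hf, hn₀]
    have hV' := hshift c
    rw [hS1, hS2] at hV'
    have hM19 : (19 : ℤ) ≤ M := by
      have := hA.card
      have := hA.range
      omega
    have hfab : f = -1 ∨ f = 0 ∨ f = 1 := by
      by_contra hne'
      push Not at hne'
      have h4 : 2 ≤ f ∨ f ≤ -2 := by omega
      rcases he with rfl | rfl <;> rcases h4 with h4 | h4 <;>
        nlinarith [mul_nonneg (show (0 : ℤ) ≤ M - 19 by omega) (sq_nonneg f)]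
    refine Or.inr ⟨fun y hy => ?_, ⟨f, e, hfab, he.symm, ?_⟩, ?_⟩
    · have hy' := mem_sharp.1 hy
      rw [hsum0 ⟨y, hy'.1⟩ (fun e => hy'.2 (congrArg Subtype.val e)) c, ← hf]
      refine (norm_add_le _ _).trans ?_
      have h1' : ‖((f : ℤ) : ℂ)‖ ≤ 1 := by rcases hfab with h | h | h <;> rw [h] <;> norm_num
      have h2' : ‖∑ θ ∈ J, (((n θ : ℤ) - c : ℤ) : ℂ) * (θ : A → ℂ) ⟨y, hy'.1⟩‖ ≤ 6 := by
        rw [Finset.sum_congr rfl (g := fun θ : IrrCharacter A =>
            if θ ∈ P then (e : ℂ) * (θ : A → ℂ) ⟨y, hy'.1⟩ else 0)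
          (fun θ hθ => by rw [hd θ hθ]; split_ifs <;> simp),
          Finset.sum_ite_mem, Finset.inter_eq_right.2 hPJ]
        refine (norm_sum_le_of_le _ (f := fun θ : IrrCharacter A => (e : ℂ) * (θ : A → ℂ) ⟨y, hy'.1⟩)
          (n := fun _ => 1) fun θ _ => ?_).trans (by simp [hPc])
        have := Char.IsChar.norm_le (Char.IsIrr.isCharacter θ.2) (⟨y, hy'.1⟩ : A)
        rw [irr_one_of_comm hc, Complex.one_re] at this
        rcases he with rfl | rfl <;> simpa using this
      linarith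
    · refine ⟨c, ?_⟩
      rw [← hS1, ← hD, hDn, Finset.sum_sub_distrib, Finset.sum_const, Finset.card_univ,
        card_irr_of_comm hc, ← hM, nsmul_eq_mul]
      push_cast
      ring
    · rw [← hVA]
      have : 6 * (M : ℤ) - 36 ≤ V := by
        rw [hV']
        rcases hfab with h | h | h <;> rcases he with e' | e' <;> rw [h, e'] <;> nlinarith
      exact_mod_cast this

/-- The part of the norm left outside the conjugates of `A`. -/
theorem Sing6.slack (hA : Sing6 A r) {χ : IrrCharacter G} (h : Exc A χ) (D : Finset G) (N : Subgroup G)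
    (hti : ∀ g, ∀ d ∈ D, g * d * g⁻¹ ∈ D → g ∈ N) (hd : ∀ g, ∀ d ∈ sharp A, g * d * g⁻¹ ∉ D) :
    (Nat.card A : ℝ) * ∑ d ∈ D, ‖(χ : G → ℂ) d‖ ^ 2 ≤ 6 * (Nat.card N : ℝ) := by
  classical
  have h' := mass_pair (sharp A) D (Subgroup.normalizer (A : Set G)) N
    (fun g d hd hd' => hA.ti g d (mem_sharp.1 hd).1 (mem_sharp.1 hd).2 (mem_sharp.1 hd').1)
    hti hd (F := fun w => ‖(χ : G → ℂ) w‖ ^ 2) (fun w => sq_nonneg _) (norm_conj_eq χ)
  rw [sum_normSq_irr, hA.norm] at h'
  push_cast at h'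
  have hG : (0 : ℝ) < Nat.card G := Nat.cast_pos.2 Nat.card_pos
  have hN : (0 : ℝ) ≤ Nat.card N := Nat.cast_nonneg _
  have h3 := mul_le_mul_of_nonneg_right h.2.2 hN
  nlinarith [mul_le_mul_of_nonneg_left h3 hG.le]

theorem Sing6.conj_count (hA : Sing6 A r) {y : G} (hy : y ∈ sharp A) :
    Nat.card {w : sharp A // IsConj (w : G) y} ≤ 6 := by
  classical
  set N := Subgroup.normalizer (A : Set G)
  have hg : ∀ w : {w : sharp A // IsConj (w : G) y}, ∃ g : N, g.1 * y * g.1⁻¹ = (w.1 : G) := by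
    intro w
    obtain ⟨g, hg⟩ := isConj_iff.1 w.2.symm
    exact ⟨⟨g, hA.ti g y (mem_sharp.1 hy).1 (mem_sharp.1 hy).2
      (by rw [hg]; exact (mem_sharp.1 w.1.2).1)⟩, hg⟩
  choose g hg using hg
  let F : {w : sharp A // IsConj (w : G) y} × A → N := fun p =>
    g p.1 * ⟨p.2.1, Subgroup.le_normalizer p.2.2⟩
  have hF : Function.Injective F := by
    rintro ⟨w, a⟩ ⟨w', a'⟩ e
    have e' : (g w).1 * a.1 = (g w').1 * a'.1 := congrArg Subtype.val e
    have hconj : ∀ (h : G) (a : A), h * a.1 * y * (h * a.1)⁻¹ = h * y * h⁻¹ := fun h a => by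
      rw [mul_assoc h, hA.comm _ a.2 _ (mem_sharp.1 hy).1]
      group
    have hw : (w.1 : G) = (w'.1 : G) := by rw [← hg w, ← hg w', ← hconj _ a, e', hconj]
    obtain rfl : w = w' := Subtype.ext (Subtype.ext hw)
    exact Prod.ext rfl (Subtype.ext (mul_left_cancel e'))
  have h := Nat.card_le_card_of_injective F hF
  rw [Nat.card_prod, hA.norm] at h
  exact Nat.le_of_mul_le_mul_right h Nat.card_pos

/-- The characters constant away from one have small values there. -/
theorem Sing6.const_sq_le (hA : Sing6 A r) (R : Finset (IrrCharacter G)) (z : IrrCharacter G → ℤ)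
    (hz : ∀ χ ∈ R, ∀ y ∈ sharp A, (χ : G → ℂ) y = z χ) : ∑ χ ∈ R, z χ ^ 2 ≤ 6 := by
  classical
  set s := sharp A with hs
  set M := Nat.card A
  have hsc : s.card + 1 = M := card_sharp A
  have hM : M = 6 * r + 1 := hA.card
  have h1 : ∑ χ : IrrCharacter G, ‖∑ y ∈ s, (χ : G → ℂ) y‖ ^ 2 ≤ 6 * (M : ℝ) * s.card := by
    have e : ∀ χ : IrrCharacter G, ((‖∑ y ∈ s, (χ : G → ℂ) y‖ ^ 2 : ℝ) : ℂ) =
        ∑ y ∈ s, ∑ w ∈ s, (χ : G → ℂ) y * conj ((χ : G → ℂ) w) := fun χ => by
      rw [← Finset.sum_mul_sum, ← map_sum, Complex.mul_conj, Complex.sq_norm]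
    have e2 : ((∑ χ : IrrCharacter G, ‖∑ y ∈ s, (χ : G → ℂ) y‖ ^ 2 : ℝ) : ℂ) =
        ((∑ y ∈ s, M * (s.filter fun w => IsConj w y).card : ℕ) : ℂ) := by
      rw [Complex.ofReal_sum]
      simp only [e]
      rw [Finset.sum_comm, Nat.cast_sum]
      refine Finset.sum_congr rfl fun y hy => ?_
      rw [Finset.sum_comm]
      simp only [Char.second_orthogonality, hA.self_cent hy]
      rw [← Finset.sum_filter, Finset.sum_const, nsmul_eq_mul, Nat.cast_mul, mul_comm]
      congr 3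
      ext w
      simp only [Finset.mem_filter]
      exact and_congr_right fun _ => isConj_comm
    rw [← Complex.ofReal_natCast] at e2
    rw [Complex.ofReal_inj.1 e2]
    calc ((∑ y ∈ s, M * (s.filter fun w => IsConj w y).card : ℕ) : ℝ)
        ≤ ((∑ _y ∈ s, 6 * M : ℕ) : ℝ) := Nat.cast_le.2 (Finset.sum_le_sum fun y hy => by
          rw [mul_comm]
          refine Nat.mul_le_mul_right _ (le_trans (le_of_eq ?_) (hA.conj_count hy))
          rw [Nat.card_eq_fintype_card, ← Fintype.card_coe]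
          exact Fintype.card_congr
            { toFun := fun w => ⟨⟨w.1, (Finset.mem_filter.1 w.2).1⟩, (Finset.mem_filter.1 w.2).2⟩
              invFun := fun w => ⟨w.1.1, Finset.mem_filter.2 ⟨w.1.2, w.2⟩⟩
              left_inv := fun _ => rfl
              right_inv := fun _ => rfl })
      _ = 6 * (M : ℝ) * s.card := by
          rw [Finset.sum_const, smul_eq_mul]
          push_cast
          ring
  have h2 : ((s.card ^ 2 * ∑ χ ∈ R, z χ ^ 2 : ℤ) : ℝ) ≤ 6 * (M : ℝ) * s.card := by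
    refine le_trans (le_of_eq ?_) ((Finset.sum_le_univ_sum_of_nonneg (s := R)
      fun χ => sq_nonneg _).trans h1)
    push_cast
    rw [Finset.mul_sum]
    refine Finset.sum_congr rfl fun χ hχ => ?_
    rw [Finset.sum_congr rfl (hz χ hχ), Finset.sum_const, nsmul_eq_mul, norm_mul,
      Complex.norm_natCast, Complex.norm_intCast, mul_pow, sq_abs]
  have h3 : (s.card : ℤ) ^ 2 * ∑ χ ∈ R, z χ ^ 2 ≤ 6 * (M : ℤ) * s.card := by exact_mod_cast h2
  by_contra hlt
  have hr : 3 ≤ r := by have := hA.range; omega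
  have hsc' : (s.card : ℤ) = 6 * r := by omega
  have hM' : (M : ℤ) = 6 * r + 1 := by omega
  rw [hsc', hM'] at h3
  nlinarith [mul_le_mul_of_nonneg_left (show (7 : ℤ) ≤ ∑ χ ∈ R, z χ ^ 2 by omega)
    (sq_nonneg (6 * (r : ℤ)))]

theorem fourth_le_of_sq_le {ι : Type*} [DecidableEq ι] (R : Finset ι) (z : ι → ℤ)
    (h : ∑ i ∈ R, z i ^ 2 ≤ 5) : ∑ i ∈ R, z i ^ 4 ≤ 17 := by
  by_cases hbig : ∃ i ∈ R, 2 ≤ z i ^ 2
  · obtain ⟨i, hi, h2⟩ := hbig
    rw [← Finset.add_sum_erase _ _ hi] at h ⊢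
    have h5 : z i ^ 2 ≤ 5 := by
      have : 0 ≤ ∑ j ∈ R.erase i, z j ^ 2 := Finset.sum_nonneg fun j _ => sq_nonneg _
      omega
    have hz : z i ^ 2 = 4 := by
      have hb : -2 ≤ z i ∧ z i ≤ 2 := ⟨by nlinarith, by nlinarith⟩
      obtain ⟨hb1, hb2⟩ := hb
      interval_cases hzi : z i <;> simp_all
    have hrest : ∑ j ∈ R.erase i, z j ^ 4 ≤ ∑ j ∈ R.erase i, z j ^ 2 := Finset.sum_le_sum fun j hj => by
      have : z j ^ 2 ≤ 1 := by
        have := Finset.single_le_sum (fun k _ => sq_nonneg (z k)) hj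
        omega
      calc z j ^ 4 = z j ^ 2 * z j ^ 2 := by ring
        _ ≤ 1 * z j ^ 2 := mul_le_mul_of_nonneg_right this (sq_nonneg _)
        _ = z j ^ 2 := one_mul _
    have : z i ^ 4 = 16 := by
      rw [show z i ^ 4 = z i ^ 2 * z i ^ 2 by ring, hz]
      norm_num
    omega
  · push Not at hbig
    refine le_trans (Finset.sum_le_sum (g := fun i => z i ^ 2) fun i hi => ?_) (h.trans (by norm_num))
    calc z i ^ 4 = z i ^ 2 * z i ^ 2 := by ring
      _ ≤ 1 * z i ^ 2 := mul_le_mul_of_nonneg_right (by have := hbig i hi; omega) (sq_nonneg _)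
      _ = z i ^ 2 := one_mul _

/-- The bound for the fourth powers. -/
theorem Sing6.fourth_le (hA : Sing6 A r) {x : G} (hx : x ∈ sharp A) {D₀ Dm : ℕ} (hD₀ : 0 < D₀)
    (hDm : 0 < Dm) (hdeg : ∀ χ : IrrCharacter G, χ ≠ triv → D₀ ≤ charDegree (χ : G → ℂ))
    (hexc : ∀ χ : IrrCharacter G, χ ≠ triv → Exc A χ → Dm ≤ charDegree (χ : G → ℂ)) :
    ∑ χ ∈ (nontriv : Finset (IrrCharacter G)),
      ‖(χ : G → ℂ) x‖ ^ 4 / (charDegree (χ : G → ℂ) : ℝ) ^ 2 ≤
      17 / (D₀ : ℝ) ^ 2 + 49 * (Nat.card A : ℝ) / (Dm : ℝ) ^ 2 := by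
  classical
  set R := (nontriv : Finset (IrrCharacter G)).filter (fun χ : IrrCharacter G =>
    ∃ z : ℤ, ∀ y ∈ sharp A, (χ : G → ℂ) y = z) with hR
  rw [← Finset.sum_filter_add_sum_filter_not (nontriv : Finset (IrrCharacter G))
    (fun χ : IrrCharacter G => ∃ z : ℤ, ∀ y ∈ sharp A, (χ : G → ℂ) y = z), ← hR]
  refine add_le_add ?_ ?_
  · have hex : ∀ χ ∈ R, ∃ z : ℤ, ∀ y ∈ sharp A, (χ : G → ℂ) y = z := fun χ hχ =>
      (Finset.mem_filter.1 hχ).2
    choose! z hz using hex
    let z' : IrrCharacter G → ℤ := fun χ => if χ = triv then 1 else z χ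
    have htR : (triv : IrrCharacter G) ∉ R := fun h => mem_nontriv.1 (Finset.mem_filter.1 h).1 rfl
    have h6 := hA.const_sq_le (insert triv R) z' fun χ hχ y hy => by
      by_cases e : χ = triv
      · subst e
        simp [z', triv_apply]
      · simp only [z', if_neg e]
        exact hz χ ((Finset.mem_insert.1 hχ).resolve_left e) y hy
    rw [Finset.sum_insert htR] at h6
    have heq : ∀ χ ∈ R, z' χ = z χ := fun χ hχ => if_neg (fun (e : χ = triv) => htR (by rw [← e]; exact hχ))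
    rw [Finset.sum_congr rfl (fun χ hχ => by rw [heq χ hχ]), show z' triv = 1 from if_pos rfl] at h6
    have h17 := fourth_le_of_sq_le R z (by omega)
    calc ∑ χ ∈ R, ‖(χ : G → ℂ) x‖ ^ 4 / (charDegree (χ : G → ℂ) : ℝ) ^ 2
        ≤ ∑ χ ∈ R, ((z χ ^ 4 : ℤ) : ℝ) / (D₀ : ℝ) ^ 2 := Finset.sum_le_sum fun χ hχ => by
          rw [hz χ hχ x hx, Complex.norm_intCast, Int.cast_pow,
            show |(z χ : ℝ)| ^ 4 = (z χ : ℝ) ^ 4 from Even.pow_abs (by decide) _]
          refine div_le_div_of_nonneg_left (by positivity) (by positivity) ?_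
          exact pow_le_pow_left₀ (Nat.cast_nonneg _)
            (Nat.cast_le.2 (hdeg χ (mem_nontriv.1 (Finset.mem_filter.1 hχ).1))) 2
      _ ≤ 17 / (D₀ : ℝ) ^ 2 := by
          rw [← Finset.sum_div]
          refine div_le_div_of_nonneg_right ?_ (sq_nonneg _)
          exact_mod_cast h17
  · calc _ ≤ ∑ χ ∈ (nontriv : Finset (IrrCharacter G)).filter
            (fun χ : IrrCharacter G => ¬ ∃ z : ℤ, ∀ y ∈ sharp A, (χ : G → ℂ) y = z),
          49 * ‖(χ : G → ℂ) x‖ ^ 2 / (Dm : ℝ) ^ 2 := Finset.sum_le_sum fun χ hχ => by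
          obtain ⟨h1, h2⟩ := Finset.mem_filter.1 hχ
          have hE := (hA.char_cases χ).resolve_left h2
          have h7 := hE.1 x hx
          refine div_le_div₀ (by positivity) ?_ (by positivity) (pow_le_pow_left₀ (Nat.cast_nonneg _)
            (Nat.cast_le.2 (hexc χ (mem_nontriv.1 h1) hE)) 2)
          rw [show ‖(χ : G → ℂ) x‖ ^ 4 = ‖(χ : G → ℂ) x‖ ^ 2 * ‖(χ : G → ℂ) x‖ ^ 2 by ring]
          refine mul_le_mul_of_nonneg_right ?_ (sq_nonneg _)
          nlinarith [norm_nonneg ((χ : G → ℂ) x)]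
      _ ≤ _ := by
          rw [← Finset.sum_div, ← Finset.mul_sum, ← hA.self_cent hx, ← sum_norm_sq x]
          refine div_le_div_of_nonneg_right ?_ (sq_nonneg _)
          refine mul_le_mul_of_nonneg_left ?_ (by norm_num)
          exact Finset.sum_le_univ_sum_of_nonneg fun χ => sq_nonneg _

end Cfsg.Agent.ReeSquare
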